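import Cfsg.Prelude.Def_CharExt
import Cfsg.Agent.Lib.CharCore.Linear
import Cfsg.Agent.Lib.CharInd.Char
import Mathlib.LinearAlgebra.Determinant

/-! The determinantal character. -/

namespace Cfsg.Agent.CharDeep.Ext

variable {G : Type*} [Group G]

/-- A multiset of roots of unity is determined by its power sums. -/
theorem card_filter_mul_eq {ι : Type*} [Fintype ι] (ω : ι → ℂ) {m : ℕ} (hm : 0 < m)
    (hω : ∀ i, ω i ^ m = 1) {z : ℂ} (hz : z ^ m = 1) [DecidableEq ℂ] :
    ∑ k ∈ Finset.range m, (∑ i, ω i ^ k) * z⁻¹ ^ k =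
      ((Finset.univ.filter fun i => ω i = z).card : ℂ) * m := by
  simp only [Finset.sum_mul, ← mul_pow]
  rw [Finset.sum_comm, Finset.natCast_card_filter, Finset.sum_mul]
  refine Finset.sum_congr rfl fun i _ => ?_
  have hz0 : z ≠ 0 := fun h => by simp [h, zero_pow hm.ne'] at hz
  split_ifs with h
  · subst h
    simp [mul_inv_cancel₀ hz0]
  · have hne : ω i * z⁻¹ ≠ 1 := by
      intro h'
      exact h (by field_simp at h'; exact h')
    have h1 : (ω i * z⁻¹) ^ m = 1 := by rw [mul_pow, hω, inv_pow, hz, inv_one, one_mul]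
    rw [geom_sum_eq hne, h1, sub_self, zero_div, zero_mul]

theorem count_map_eq {ξ : Type*} [Fintype ξ] (f : ξ → ℂ) (z : ℂ) [DecidableEq ℂ] :
    (Finset.univ.val.map f).count z = (Finset.univ.filter fun i => f i = z).card := by
  rw [Multiset.count_map, Finset.card_def, Finset.filter_val]
  congr 1
  exact Multiset.filter_congr fun i _ => eq_comm

theorem prod_eq_of_power_sums {ι κ : Type*} [Fintype ι] [Fintype κ] (ω : ι → ℂ) (ν : κ → ℂ) {m : ℕ}
    (hm : 0 < m) (hω : ∀ i, ω i ^ m = 1) (hν : ∀ i, ν i ^ m = 1)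
    (h : ∀ k : ℕ, ∑ i, ω i ^ k = ∑ i, ν i ^ k) : ∏ i, ω i = ∏ i, ν i := by
  classical
  have : Finset.univ.val.map ω = Finset.univ.val.map ν := by
    ext z
    by_cases hz : z ^ m = 1
    · rw [count_map_eq ω, count_map_eq ν]
      have h1 := card_filter_mul_eq ω hm hω hz
      have h2 := card_filter_mul_eq ν hm hν hz
      simp only [h] at h1
      have h3 := h1.symm.trans h2
      rw [mul_eq_mul_right_iff, or_iff_left (Nat.cast_ne_zero.mpr hm.ne')] at h3
      exact_mod_cast h3
    · rw [Multiset.count_eq_zero.mpr, Multiset.count_eq_zero.mpr]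
      · intro hmem
        obtain ⟨i, -, rfl⟩ := Multiset.mem_map.mp hmem
        exact hz (hν i)
      · intro hmem
        obtain ⟨i, -, rfl⟩ := Multiset.mem_map.mp hmem
        exact hz (hω i)
  exact congrArg Multiset.prod this

theorem det_eq_prod_eigen {V : Type*} [AddCommGroup V] [Module ℂ V] {ι : Type*} [Fintype ι]
    (b : Module.Basis ι ℂ V) (ω : ι → ℂ) (T : V →ₗ[ℂ] V) (h : ∀ i, T (b i) = ω i • b i) :
    LinearMap.det T = ∏ i, ω i := by
  classical
  rw [← LinearMap.det_toMatrix b]
  have : LinearMap.toMatrix b b T = Matrix.diagonal ω := by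
    ext i j
    rw [LinearMap.toMatrix_apply, h, map_smul, Module.Basis.repr_self, Finsupp.smul_single,
      Matrix.diagonal_apply, Finsupp.single_apply]
    by_cases hij : i = j
    · subst hij; simp
    · rw [if_neg (Ne.symm hij), if_neg hij]
  rw [this, Matrix.det_diagonal]

/-- Representations with equal characters have equal determinants. -/
theorem det_eq_of_character_eq [Finite G] {V W : Type*} [AddCommGroup V] [Module ℂ V]
    [FiniteDimensional ℂ V] [AddCommGroup W] [Module ℂ W] [FiniteDimensional ℂ W]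
    (ρ : Representation ℂ G V) (σ : Representation ℂ G W) (h : ρ.character = σ.character) (g : G) :
    LinearMap.det (ρ g) = LinearMap.det (σ g) := by
  obtain ⟨b, ω, hω, -, hb, hk⟩ := CharCore.exists_eigenvalues ρ g
  obtain ⟨b', ν, hν, -, hb', hk'⟩ := CharCore.exists_eigenvalues σ g
  rw [det_eq_prod_eigen b ω _ hb, det_eq_prod_eigen b' ν _ hb']
  exact prod_eq_of_power_sums ω ν (orderOf_pos g) hω hν fun k => by
    rw [← hk, ← hk', h]

/-- The determinant of a representation as a homomorphism. -/
noncomputable def detRep {V : Type*} [AddCommGroup V] [Module ℂ V] (ρ : Representation ℂ G V) :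
    G →* ℂˣ :=
  MonoidHom.toHomUnits ((LinearMap.det : (V →ₗ[ℂ] V) →* ℂ).comp ρ)

/-- The determinantal character as a homomorphism. -/
noncomputable def detHom (χ : G → ℂ) : G →* ℂˣ :=
  haveI := Classical.propDecidable (Cfsg.IsCharacter G χ)
  if h : Cfsg.IsCharacter G χ then detRep (Classical.choose (Classical.choose_spec h)) else 1

theorem detHom_coe (χ : G → ℂ) : (fun g => (detHom χ g : ℂ)) = Cfsg.detChar χ := by
  unfold detHom Cfsg.detChar
  by_cases h : Cfsg.IsCharacter G χ
  · rw [dif_pos h, dif_pos h]; rfl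
  · rw [dif_neg h, dif_neg h]; rfl

theorem detHom_apply (χ : G → ℂ) (g : G) : (detHom χ g : ℂ) = Cfsg.detChar χ g :=
  congrFun (detHom_coe χ) g

theorem detHom_eq [Finite G] {V : Type*} [AddCommGroup V] [Module ℂ V] [FiniteDimensional ℂ V]
    (ρ : Representation ℂ G V) : detHom ρ.character = detRep ρ := by
  have hc : Cfsg.IsCharacter G ρ.character := CharCore.isCharacter_character ρ
  unfold detHom
  rw [dif_pos hc]
  ext g
  exact det_eq_of_character_eq _ ρ (Classical.choose_spec (Classical.choose_spec hc)) g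

theorem detHom_comp [Finite G] {H : Type*} [Group H] [Finite H] {χ : G → ℂ}
    (hχ : Cfsg.IsCharacter G χ) (f : H →* G) :
    detHom (fun h => χ (f h)) = (detHom χ).comp f := by
  obtain ⟨n, ρ, rfl⟩ := hχ
  rw [detHom_eq ρ, show (fun h => ρ.character (f h)) = (show Representation ℂ H (Fin n → ℂ) from
    ρ.comp f).character from rfl, detHom_eq]
  ext x
  rfl

theorem detHom_hom_mul [Finite G] (l : G →* ℂˣ) {χ : G → ℂ} (hχ : Cfsg.IsCharacter G χ) {d : ℕ}
    (hd : χ 1 = d) : detHom (fun g => (l g : ℂ) * χ g) = l ^ d * detHom χ := by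
  obtain ⟨n, ρ, rfl⟩ := hχ
  have hn : n = d := by
    rw [Representation.char_one, Module.finrank_fin_fun] at hd
    exact_mod_cast hd
  subst hn
  let σ : Representation ℂ G (Fin n → ℂ) :=
    { toFun := fun g => (l g : ℂ) • ρ g
      map_one' := by simp
      map_mul' := fun a b => by
        rw [map_mul, map_mul, Units.val_mul, smul_mul_smul_comm] }
  have hσ : (fun g => (l g : ℂ) * ρ.character g) = σ.character := by
    funext g
    change _ = LinearMap.trace ℂ _ ((l g : ℂ) • ρ g)
    rw [map_smul, smul_eq_mul]; rfl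
  rw [hσ, detHom_eq, detHom_eq]
  ext g
  rw [MonoidHom.mul_apply, Units.val_mul, MonoidHom.pow_apply, Units.val_pow_eq_pow_val]
  change LinearMap.det ((l g : ℂ) • ρ g) = _ * LinearMap.det (ρ g)
  rw [LinearMap.det_smul, Module.finrank_fin_fun]

/-- The inclusion of linear characters into functions. -/
def homToFun : (G →* ℂˣ) →* (G → ℂ) where
  toFun l g := (l g : ℂ)
  map_one' := rfl
  map_mul' _ _ := rfl

theorem orderOf_homToFun (l : G →* ℂˣ) : orderOf (fun g => (l g : ℂ)) = orderOf l :=
  orderOf_injective homToFun (fun a b h => MonoidHom.ext fun g => Units.ext (congrFun h g)) l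

theorem detOrder_eq (χ : G → ℂ) : Cfsg.detOrder χ = orderOf (detHom χ) := by
  rw [Cfsg.detOrder, ← detHom_coe, orderOf_homToFun]

end Cfsg.Agent.CharDeep.Ext
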