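import Mathlib

/-! Extending invariant linear characters of normal subgroups by transfer. -/

namespace Cfsg.Agent.CharDeep.Ext

open MulAction

variable {G : Type*} [Group G] [Finite G] {A : Type*} [CommGroup A]

/-- Transfer at an element all of whose conjugates lie in the subgroup, with equal images. -/
theorem transfer_eq_pow_of_conj {H : Subgroup G} (ν : H →* A) (g : G)
    (hmem : ∀ x : G, x⁻¹ * g * x ∈ H) (hinv : ∀ x : G, ν ⟨x⁻¹ * g * x, hmem x⟩ =
      ν ⟨g, by simpa using hmem 1⟩) :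
    MonoidHom.transfer ν g = ν ⟨g, by simpa using hmem 1⟩ ^ H.index := by
  classical
  let := H.fintypeQuotientOfFiniteIndex
  have hfix : ∀ q : G ⧸ H, g • q = q := by
    intro q
    obtain ⟨x, rfl⟩ := QuotientGroup.mk_surjective q
    rw [MulAction.Quotient.smul_mk, QuotientGroup.eq]
    have := H.inv_mem (hmem x)
    simpa [mul_assoc] using this
  have hper : ∀ q : G ⧸ H, Function.minimalPeriod (g • ·) q = 1 := fun q =>
    Function.minimalPeriod_eq_one_iff_isFixedPt.mpr (hfix q)
  rw [MonoidHom.transfer_eq_prod_quotient_orbitRel_zpowers_quot]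
  have hterm : ∀ (x : G) (k : ℕ) (hk : x⁻¹ * g ^ k * x ∈ H), k = 1 →
      ν ⟨x⁻¹ * g ^ k * x, hk⟩ = ν ⟨g, by simpa using hmem 1⟩ := by
    intro x k hk h1
    subst h1
    rw [← hinv x]
    exact congrArg ν (Subtype.ext (by simp))
  rw [Finset.prod_congr rfl (fun q _ => hterm _ _ _ (hper q.out)), Finset.prod_const,
    Subgroup.index_eq_sum_minimalPeriod H g, Finset.card_eq_sum_ones]
  congr 1
  exact Finset.sum_congr rfl fun q _ => (hper q.out).symm

/-- Values of a transfer are killed by any exponent killing the values of the homomorphism. -/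
theorem transfer_pow_eq_one {H : Subgroup G} (ν : H →* A) {o : ℕ} (ho : ν ^ o = 1) :
    MonoidHom.transfer ν ^ o = 1 := by
  classical
  let := H.fintypeQuotientOfFiniteIndex
  ext g
  rw [MonoidHom.pow_apply, MonoidHom.one_apply,
    MonoidHom.transfer_eq_prod_quotient_orbitRel_zpowers_quot, ← Finset.prod_pow]
  exact Finset.prod_eq_one fun q _ => by rw [← MonoidHom.pow_apply, ho, MonoidHom.one_apply]

variable (N : Subgroup G) [hN : N.Normal]

/-- An invariant linear character of a normal subgroup extends if suitable powers extend. -/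
theorem exists_extend_of_local (lam : N →* A) (ho : 0 < orderOf lam)
    (h : ∀ p : ℕ, p.Prime → p ∣ orderOf lam → ∃ (H : Subgroup G) (hNH : N ≤ H) (ν : H →* A),
      ¬ p ∣ H.index ∧ ∀ (g : G) (n : N),
        ν ⟨g * n * g⁻¹, hNH (hN.conj_mem (n : G) n.2 g)⟩ = lam n) :
    ∃ μ : G →* A, ∀ n : N, μ n = lam n := by
  let R : (G →* A) →* (N →* A) := MonoidHom.compHom' N.subtype
  have key : (QuotientGroup.mk lam : (N →* A) ⧸ R.range) = 1 := by
    rw [← orderOf_eq_one_iff]
    by_contra hne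
    obtain ⟨p, hp, hpd⟩ := Nat.exists_prime_and_dvd hne
    have hpo : p ∣ orderOf lam := hpd.trans (orderOf_map_dvd (QuotientGroup.mk' R.range) lam)
    obtain ⟨H, hNH, ν, hindex, hν⟩ := h p hp hpo
    refine hindex (hpd.trans ?_)
    rw [orderOf_dvd_iff_pow_eq_one, ← QuotientGroup.mk_pow, QuotientGroup.eq_one_iff]
    refine ⟨MonoidHom.transfer ν, ?_⟩
    ext n
    have hmem : ∀ x : G, x⁻¹ * (n : G) * x ∈ H := fun x => by
      have := hNH (hN.conj_mem (n : G) n.2 x⁻¹)
      rwa [inv_inv] at this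
    have hinv : ∀ x : G, ν ⟨x⁻¹ * (n : G) * x, hmem x⟩ = lam n := fun x => by
      rw [← hν x⁻¹ n]
      exact congrArg ν (Subtype.ext (by simp))
    have h1 : ν ⟨(n : G), hNH n.2⟩ = lam n := by
      rw [← hinv 1]
      exact congrArg ν (Subtype.ext (by simp))
    change MonoidHom.transfer ν (n : G) = (lam ^ H.index) n
    rw [transfer_eq_pow_of_conj ν (n : G) hmem (fun x => (hinv x).trans h1.symm), MonoidHom.pow_apply,
      h1]
  obtain ⟨μ, hμ⟩ := (QuotientGroup.eq_one_iff _).mp key
  exact ⟨μ, fun n => DFunLike.congr_fun hμ n⟩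

omit [Finite G] in
theorem pow_index_eq_one_of_trivial (δ : G →* A) (hδ : ∀ n : N, δ n = 1) (g : G) :
    δ g ^ N.index = 1 := by
  have hm : g ^ N.index ∈ N := N.pow_index_mem g
  rw [← map_pow]
  exact hδ ⟨_, hm⟩

/-- Unique extension of an invariant linear character of order coprime to the index. -/
theorem exists_unique_extend_coprime (lam : N →* A)
    (hinv : ∀ (g : G) (n : N), lam ⟨g * n * g⁻¹, hN.conj_mem (n : G) n.2 g⟩ = lam n)
    (hcop : Nat.Coprime N.index (orderOf lam)) :
    ∃ μ : G →* A, ((∀ n : N, μ n = lam n) ∧ orderOf μ = orderOf lam) ∧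
      ∀ μ' : G →* A, (∀ n : N, μ' n = lam n) → Nat.Coprime N.index (orderOf μ') → μ' = μ := by
  obtain ⟨m, hm⟩ := exists_pow_eq_self_of_coprime hcop
  have htr : ∀ n : N, MonoidHom.transfer lam (n : G) = (lam ^ N.index) n := by
    intro n
    have hmem : ∀ x : G, x⁻¹ * (n : G) * x ∈ N := fun x => by
      have := hN.conj_mem (n : G) n.2 x⁻¹
      rwa [inv_inv] at this
    have hval : ∀ x : G, lam ⟨x⁻¹ * (n : G) * x, hmem x⟩ = lam n := fun x => by
      rw [← hinv x⁻¹ n]
      exact congrArg lam (Subtype.ext (by simp))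
    rw [transfer_eq_pow_of_conj lam (n : G) hmem (fun x => hval x), MonoidHom.pow_apply]
  refine ⟨MonoidHom.transfer lam ^ m, ⟨fun n => ?_, ?_⟩, fun μ' hμ' hcop' => ?_⟩
  · rw [MonoidHom.pow_apply, htr, ← MonoidHom.pow_apply, hm]
  · refine Nat.dvd_antisymm ?_ ?_
    · rw [orderOf_dvd_iff_pow_eq_one, ← pow_mul, mul_comm, pow_mul,
        transfer_pow_eq_one lam (pow_orderOf_eq_one lam), one_pow]
    · rw [orderOf_dvd_iff_pow_eq_one]
      ext n
      have := DFunLike.congr_fun (pow_orderOf_eq_one (MonoidHom.transfer lam ^ m)) (n : G)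
      rw [MonoidHom.pow_apply, MonoidHom.pow_apply, htr, ← MonoidHom.pow_apply, hm] at this
      simpa using this
  · set μ := MonoidHom.transfer lam ^ m with hμ
    have hμn : ∀ n : N, μ n = lam n := fun n => by
      rw [hμ, MonoidHom.pow_apply, htr, ← MonoidHom.pow_apply, hm]
    have h1 : (μ' / μ) ^ N.index = 1 := by
      ext g
      rw [MonoidHom.pow_apply, MonoidHom.one_apply]
      exact pow_index_eq_one_of_trivial N _
        (fun n => by rw [MonoidHom.div_apply, hμ' n, hμn n, div_self']) g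
    have hμo : μ ^ orderOf lam = 1 := by
      rw [hμ, ← pow_mul, mul_comm, pow_mul, transfer_pow_eq_one lam (pow_orderOf_eq_one lam), one_pow]
    have h2 : (μ' / μ) ^ (orderOf μ' * orderOf lam) = 1 := by
      rw [div_pow, pow_mul, pow_orderOf_eq_one, one_pow, mul_comm, pow_mul, hμo, one_pow, div_one]
    have h3 := Nat.eq_one_of_dvd_coprimes (hcop'.mul_right hcop) (orderOf_dvd_of_pow_eq_one h1)
      (orderOf_dvd_of_pow_eq_one h2)
    exact div_eq_one.mp (orderOf_eq_one_iff.mp h3)

omit [Finite G] in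
/-- Adjusting by a linear character trivial on a normal subgroup of coprime index. -/
theorem exists_adjust (μ ε : G →* A) (hN' : ∀ n : N, μ n = ε n) {d : ℕ}
    (hcop : Nat.Coprime N.index d) :
    ∃ ν : G →* A, (∀ n : N, ν n = 1) ∧ ν ^ d * ε = μ ∧
      ∀ b : G →* A, (∀ n : N, b n = 1) → b ^ d * ε = μ → b = ν := by
  set δ : G →* A := μ / ε with hδ
  have hδN : ∀ n : N, δ n = 1 := fun n => by rw [hδ, MonoidHom.div_apply, hN' n, div_self']
  have hδi : δ ^ N.index = 1 := by
    ext g
    rw [MonoidHom.pow_apply, MonoidHom.one_apply, pow_index_eq_one_of_trivial N δ hδN g]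
  have hdcop : Nat.Coprime d (orderOf δ) :=
    (hcop.coprime_dvd_left (orderOf_dvd_of_pow_eq_one hδi)).symm
  obtain ⟨m, hm⟩ := exists_pow_eq_self_of_coprime hdcop
  have hνd : (δ ^ m) ^ d = δ := by rw [← pow_mul, mul_comm, pow_mul, hm]
  refine ⟨δ ^ m, fun n => by rw [MonoidHom.pow_apply, hδN n, one_pow],
    by rw [hνd, hδ, div_mul_cancel], fun b hbN hb => ?_⟩
  have hbd : b ^ d = δ := by rw [hδ, ← hb, mul_div_cancel_right]
  have hνi : (δ ^ m) ^ N.index = 1 := by rw [← pow_mul, mul_comm, pow_mul, hδi, one_pow]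
  have hbi : b ^ N.index = 1 := by
    ext g
    rw [MonoidHom.pow_apply, MonoidHom.one_apply, pow_index_eq_one_of_trivial N b hbN g]
  have h1 : (b / δ ^ m) ^ d = 1 := by rw [div_pow, hνd, hbd, div_self']
  have h2 : (b / δ ^ m) ^ N.index = 1 := by rw [div_pow, hνi, hbi, div_one]
  exact div_eq_one.mp (orderOf_eq_one_iff.mp
    (Nat.eq_one_of_dvd_coprimes hcop (orderOf_dvd_of_pow_eq_one h2) (orderOf_dvd_of_pow_eq_one h1)))

end Cfsg.Agent.CharDeep.Ext
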