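import Cfsg.Agent.CharDeep.Ext.Clifford
import Cfsg.Agent.CharDeep.Ext.LinExt
import Cfsg.Agent.CharDeep.Ext.DetChar
import Cfsg.Agent.Lib.CharInd.Brauer
import Mathlib.GroupTheory.Solvable
import Mathlib.GroupTheory.Nilpotent

/-! Extending invariant irreducible characters of coprime degree. -/

namespace Cfsg.Agent.CharDeep.Ext

open scoped ComplexConjugate

universe u

section

variable {G : Type u} [Group G] [Finite G] (N : Subgroup G) [hN : N.Normal]

/-- `χ` is an irreducible extension of `ϑ` with determinant `μ`. -/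
def IsExt (ϑ : N → ℂ) (μ : G →* ℂˣ) (χ : G → ℂ) : Prop :=
  Cfsg.IsIrrCharacter G χ ∧ (∀ n : N, χ n = ϑ n) ∧ detHom χ = μ

theorem detHom_restrict {χ : G → ℂ} (hχ : Cfsg.IsCharacter G χ) {ϑ : N → ℂ}
    (h : ∀ n : N, χ n = ϑ n) : detHom ϑ = (detHom χ).comp N.subtype := by
  rw [← detHom_comp hχ N.subtype]
  exact congrArg detHom (funext fun n => (h n).symm)

/-- An extension can be adjusted to any extension of the determinant, uniquely. -/
theorem existsUnique_det {ϑ : N → ℂ} (hϑ : Cfsg.IsIrrCharacter N ϑ) {d : ℕ} (hd : ϑ 1 = d)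
    (hcop : Nat.Coprime N.index d) {η : G → ℂ} (hη : Cfsg.IsIrrCharacter G η)
    (hext : ∀ n : N, η n = ϑ n) (μ : G →* ℂˣ) (hμ : ∀ n : N, μ n = detHom ϑ n) :
    ∃! χ, IsExt N ϑ μ χ := by
  have := Fintype.ofFinite G
  have := Fintype.ofFinite N
  have hηc := CharCore.IsIrrCharacter.isCharacter hη
  have hη1 : η 1 = d := by rw [← hd, ← hext 1]; rfl
  obtain ⟨ν, hνN, hνd, hνu⟩ := exists_adjust N μ (detHom η) (fun n => by
    rw [hμ n, detHom_restrict N hηc hext]; rfl) hcop
  refine ⟨fun g => (ν g : ℂ) * η g, ⟨CharCore.isIrrCharacter_hom_mul _ hη, fun n => ?_, ?_⟩, ?_⟩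
  · change (ν (n : G) : ℂ) * η n = ϑ n
    rw [hνN n, Units.val_one, one_mul, hext]
  · rw [detHom_hom_mul _ hηc hη1]
    exact hνd
  rintro χ' ⟨hχ', hext', hdet'⟩
  have hηN : Cfsg.IsIrrCharacter N (fun n : N => η n) := by
    rw [show (fun n : N => η n) = ϑ from funext hext]; exact hϑ
  have hne : Cfsg.classInner (fun n : N => χ' n) (fun n : N => η n) ≠ 0 := by
    rw [show (fun n : N => χ' n) = (fun n : N => η n) from funext fun n => by rw [hext', hext],
      (CharCore.isIrrCharacter_iff.mp hηN).2]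
    exact one_ne_zero
  obtain ⟨β, hβ, hinv, heq, -⟩ := exists_gallagher hη hηN hχ' hne
  have hd0 : (d : ℂ) ≠ 0 := by rw [← hη1]; exact CharCore.irr_apply_one_ne_zero ⟨η, hη⟩
  have hβ1 : β 1 = 1 := by
    have h := congrFun heq 1
    rw [Pi.mul_apply, hη1, show χ' 1 = (d : ℂ) by rw [← hd, ← hext' 1]; rfl] at h
    exact mul_right_cancel₀ hd0 (h.symm.trans (one_mul _).symm)
  obtain ⟨b, rfl⟩ := CharCore.IsCharacter.exists_hom_of_degree_one
    (CharCore.IsIrrCharacter.isCharacter hβ) hβ1
  have hbN : ∀ n : N, b n = 1 := fun n => by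
    have h := hinv n 1
    simp only [mul_one, map_one, Units.val_one] at h
    exact Units.ext (h.trans Units.val_one.symm)
  rw [heq, show (fun g => (b g : ℂ)) * η = fun g => (b g : ℂ) * η g from rfl,
    detHom_hom_mul _ hηc hη1] at hdet'
  rw [heq, hνu b hbN hdet']
  rfl

/-- An invariant irreducible character extends to an overgroup of prime index. -/
theorem exists_ext_prime {ϑ : N → ℂ} (hϑ : Cfsg.IsIrrCharacter N ϑ) (hinv : Inv N ϑ)
    (hp : N.index.Prime) : ∃ β : G → ℂ, Cfsg.IsIrrCharacter G β ∧ ∀ n : N, β n = ϑ n := by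
  classical
  have := Fintype.ofFinite G
  have := Fintype.ofFinite N
  obtain ⟨β, hβne⟩ : ∃ β : Cfsg.IrrCharacter G, Cfsg.classInner (Cfsg.indFun N ϑ) β ≠ 0 := by
    by_contra hcon
    push Not at hcon
    have h := classInner_indFun_self N hinv hϑ
    rw [CharCore.eq_sum_classInner (CharInd.isClassFunction_indFun N ϑ),
      CharCore.classInner_sum_sum] at h
    simp only [hcon, map_zero, mul_zero, Finset.sum_const_zero] at h
    exact hp.ne_zero (by exact_mod_cast h.symm)
  obtain ⟨e, he1, he2⟩ := classInner_indFun_eq_natCast N (CharCore.IsIrrCharacter.isCharacter hϑ) β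
  have he0 : e ≠ 0 := fun h => hβne (by rw [he1, h, Nat.cast_zero])
  have hres : ∀ n : N, (β : G → ℂ) n = (e : ℂ) * ϑ n := by
    intro n
    have h := congrFun (restrict_eq_smul N hinv hϑ β.2 (by rw [he2]; exact_mod_cast he0)) n
    rwa [he2, Pi.smul_apply, smul_eq_mul] at h
  refine ⟨β, β.2, fun n => ?_⟩
  suffices e = 1 by rw [hres, this, Nat.cast_one, one_mul]
  set f : G → ℂ := fun g => (β : G → ℂ) g * conj ((β : G → ℂ) g) with hf
  have hfc : Cfsg.IsCharacter G f := CharCore.isCharacter_mul (CharCore.irr_isCharacter β)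
    (CharCore.IsCharacter.star (CharCore.irr_isCharacter β))
  have hη := isCharacter_avg N hfc
  have hη1 : avg N f 1 = (e : ℂ) * e := by
    rw [avg_one]
    have : (fun n : N => f n) = fun n => ((e : ℂ) • ϑ) n * conj (((e : ℂ) • ϑ) n) := by
      funext n; simp only [hf, hres, Pi.smul_apply, smul_eq_mul]
    rw [this]
    refine Eq.trans (b := Cfsg.classInner ((e : ℂ) • ϑ) ((e : ℂ) • ϑ)) ?_ ?_
    · simp only [CharCore.classInner_def, Pi.one_apply, map_one, mul_one]
    · rw [CharCore.classInner_smul_left, CharCore.classInner_smul_right,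
        (CharCore.isIrrCharacter_iff.mp hϑ).2, map_natCast, mul_one]
  haveI hqc : IsCyclic (G ⧸ N) := by
    haveI := Fact.mk hp
    exact isCyclic_of_prime_card (p := N.index) (Subgroup.index_eq_card N).symm
  have hcomm : commutator G ≤ N := by
    rw [commutator_def, Subgroup.commutator_le]
    intro a _ b _
    rw [← QuotientGroup.eq_one_iff, ← QuotientGroup.mk'_apply, map_commutatorElement,
      commutatorElement_eq_one_iff_mul_comm]
    letI := IsCyclic.commGroup (α := G ⧸ N)
    exact mul_comm _ _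
  have hzero : ∀ γ : Cfsg.IrrCharacter G, (γ : G → ℂ) ≠ 1 →
      Cfsg.classInner (avg N f) γ = 0 := by
    intro γ hγ1
    rcases avg_irr N γ with hav | hav
    swap
    · have hc := classInner_avg N (f := (γ : G → ℂ)) (β := avg N f) (fun n g => avg_mul_left N f n g)
      rw [hav] at hc
      rw [← CharCore.conj_classInner, ← hc]
      simp [CharCore.classInner_def]
    have hγinv : ∀ (n : N) g, (γ : G → ℂ) ((n : G) * g) = (γ : G → ℂ) g := fun n g => by
      rw [← hav]; exact avg_mul_left N _ n g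
    rw [classInner_avg N hγinv]
    have hdeg : (γ : G → ℂ) 1 = 1 := by
      obtain ⟨nn, ρ, hρ, hchar⟩ := γ.2
      have hker : ∀ c ∈ commutator G, ρ c = 1 := fun c hc => by
        have h1 := hγinv ⟨c, hcomm hc⟩ 1
        rw [← hchar, mul_one, Representation.char_one] at h1
        exact (CharCore.character_eq_finrank_iff ρ c).mp h1
      have hs : ∀ g, g ∈ CharInd.scalarSubgroup ρ := by
        intro g
        have hcom : ∀ b, ρ g * ρ b = ρ b * ρ g := fun b => by
          have h1 := hker _ (Subgroup.commutator_mem_commutator (Subgroup.mem_top g) (Subgroup.mem_top b))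
          rw [commutatorElement_def] at h1
          rw [← map_mul, ← map_mul, show g * b = g * b * g⁻¹ * b⁻¹ * (b * g) by group,
            map_mul, h1, one_mul]
        obtain ⟨c, hc⟩ :=
          (Representation.IsIrreducible.algebraMap_intertwiningMap_bijective_of_isAlgClosed
            (ρ := ρ)).surjective (⟨ρ g, hcom⟩ : Representation.IntertwiningMap ρ ρ)
        exact CharInd.mem_scalarSubgroup.mpr ⟨c, fun v =>
          (LinearMap.congr_fun (congrArg Representation.IntertwiningMap.toLinearMap hc) v).symm⟩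
      rw [← hchar, Representation.char_one, CharInd.finrank_eq_one_of_scalar ρ hs, Nat.cast_one]
    obtain ⟨l, hl⟩ := CharCore.IsCharacter.exists_hom_of_degree_one (CharCore.irr_isCharacter γ) hdeg
    have hmul := CharCore.isIrrCharacter_hom_mul l β.2
    by_contra hne
    have heq : (β : G → ℂ) = fun g => (l g : ℂ) * (β : G → ℂ) g := by
      by_contra hcon
      apply hne
      refine Eq.trans ?_ (CharCore.classInner_irr_of_ne (χ := β) (ψ := ⟨_, hmul⟩)
        (fun h => hcon (congrArg Subtype.val h)))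
      simp only [CharCore.classInner_def, hf, hl, map_mul]
      congr 1
      exact Finset.sum_congr rfl fun g _ => by ring
    have hNl : N ≤ l.ker := fun n hn => by
      have h1 := hγinv ⟨n, hn⟩ 1
      rw [hl] at h1
      simp only [mul_one, map_one, Units.val_one] at h1
      exact Units.ext (h1.trans Units.val_one.symm)
    have hkerN : l.ker = N := by
      have hd := Subgroup.index_dvd_of_le hNl
      rcases (Nat.dvd_prime hp).mp hd with h | h
      · exfalso
        apply hγ1
        rw [hl]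
        funext g
        have hg : g ∈ l.ker := by rw [Subgroup.index_eq_one.mp h]; trivial
        rw [MonoidHom.mem_ker] at hg
        rw [hg, Units.val_one, Pi.one_apply]
      · exact (Subgroup.eq_of_le_of_card_ge hNl (le_of_eq (Nat.eq_of_mul_eq_mul_right
          (Nat.pos_of_ne_zero hp.ne_zero)
          (show Nat.card l.ker * N.index = Nat.card N * N.index by
            rw [N.card_mul_index, ← h, l.ker.card_mul_index])))).symm
    have hvan : ∀ g, g ∉ N → (β : G → ℂ) g = 0 := by
      intro g hg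
      have h1 := congrFun heq g
      by_contra hb
      apply hg
      rw [← hkerN, MonoidHom.mem_ker]
      have h2 : (l g : ℂ) * (β : G → ℂ) g = 1 * (β : G → ℂ) g := by rw [one_mul]; exact h1.symm
      exact Units.ext (mul_right_cancel₀ hb h2)
    have hnorm := (CharCore.isIrrCharacter_iff.mp β.2).2
    rw [CharCore.classInner_def, ← Finset.sum_subset (Finset.subset_univ (Finset.univ.filter (· ∈ N)))
      (fun g _ hg => by rw [hvan g (by simpa using hg), zero_mul]),
      Finset.sum_subtype (p := fun g => g ∈ N) _ (fun g => by simp)] at hnorm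
    have h2 := avg_one N f
    rw [hη1] at h2
    have hsum : ∑ n : N, (β : G → ℂ) n * conj ((β : G → ℂ) n) = (Nat.card N : ℂ) * ((e : ℂ) * e) := by
      rw [h2, CharCore.classInner_def, ← mul_assoc, mul_inv_cancel₀ (natCard_ne N), one_mul]
      simp [hf]
    rw [hsum, ← N.card_mul_index, Nat.cast_mul] at hnorm
    have h3 : (e : ℂ) * e = (N.index : ℂ) := by
      have hc := natCard_ne N
      have hi : (N.index : ℂ) ≠ 0 := Nat.cast_ne_zero.mpr hp.ne_zero
      field_simp at hnorm
      linear_combination hnorm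
    have h4 : e * e = N.index := by exact_mod_cast h3
    exact hp.not_isSquare ⟨e, h4.symm⟩
  have hone : avg N f = 1 := by
    rw [CharCore.IsCharacter.eq_sum_classInner hη,
      Finset.sum_eq_single (⟨1, CharCore.isIrrCharacter_one⟩ : Cfsg.IrrCharacter G)
        (fun γ _ hγ => by rw [hzero γ (fun h => hγ (Subtype.ext h)), zero_smul])
        (fun h => absurd (Finset.mem_univ _) h)]
    rw [classInner_avg N (fun _ _ => rfl)]
    have h1 : Cfsg.classInner f (1 : G → ℂ) = 1 := by
      refine Eq.trans ?_ (CharCore.isIrrCharacter_iff.mp β.2).2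
      simp [CharCore.classInner_def, hf]
    rw [h1, one_smul]
  rw [hone, Pi.one_apply] at hη1
  have h5 : e * e = 1 := by exact_mod_cast hη1.symm
  exact Nat.eq_one_of_mul_eq_one_right h5

theorem exists_normal_prime_index [hs : Group.IsSolvable (G ⧸ N)] (hne : N.index ≠ 1) :
    ∃ M : Subgroup G, M.Normal ∧ N ≤ M ∧ M.index.Prime := by
  haveI : Nontrivial (G ⧸ N) := by
    rw [← Finite.one_lt_card_iff_nontrivial, ← Subgroup.index_eq_card]
    have : N.index ≠ 0 := Subgroup.index_ne_zero_of_finite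
    omega
  have hlt : commutator (G ⧸ N) < ⊤ := Group.IsSolvable.commutator_lt_top_of_nontrivial (G ⧸ N)
  obtain ⟨M', hM', hle⟩ := (eq_top_or_exists_le_coatom (commutator (G ⧸ N))).resolve_left hlt.ne
  haveI : M'.Normal := Subgroup.Normal.of_commutator_le _ hle
  refine ⟨M'.comap (QuotientGroup.mk' N), inferInstance, fun n hn => ?_, ?_⟩
  · rw [Subgroup.mem_comap, QuotientGroup.mk'_apply, (QuotientGroup.eq_one_iff n).mpr hn]
    exact one_mem _
  rw [Subgroup.index_comap_of_surjective M' (QuotientGroup.mk'_surjective N), Subgroup.index_eq_card]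
  haveI : Nontrivial ((G ⧸ N) ⧸ M') := QuotientGroup.nontrivial_iff.mpr hM'.1
  haveI : IsSimpleGroup ((G ⧸ N) ⧸ M') := ⟨fun H _ => by
    have hle : M' ≤ H.comap (QuotientGroup.mk' M') := by
      intro x hx
      rw [Subgroup.mem_comap, QuotientGroup.mk'_apply, (QuotientGroup.eq_one_iff x).mpr hx]
      exact one_mem _
    rcases eq_or_lt_of_le hle with h | h
    · left
      rw [← Subgroup.map_comap_eq_self_of_surjective (QuotientGroup.mk'_surjective M') H, ← h,
        QuotientGroup.map_mk'_self]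
    · right
      rw [← Subgroup.map_comap_eq_self_of_surjective (QuotientGroup.mk'_surjective M') H, hM'.2 _ h,
        Subgroup.map_top_of_surjective _ (QuotientGroup.mk'_surjective M')]⟩
  letI : CommGroup ((G ⧸ N) ⧸ M') :=
    { (inferInstance : Group ((G ⧸ N) ⧸ M')) with
      mul_comm := fun a b => by
        obtain ⟨a, rfl⟩ := QuotientGroup.mk'_surjective M' a
        obtain ⟨b, rfl⟩ := QuotientGroup.mk'_surjective M' b
        rw [← commutatorElement_eq_one_iff_mul_comm, ← map_commutatorElement]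
        exact (QuotientGroup.eq_one_iff _).mpr
          (hle (Subgroup.commutator_mem_commutator (Subgroup.mem_top a) (Subgroup.mem_top b))) }
  exact IsSimpleGroup.prime_card

theorem isExt_comp_equiv {G' : Type*} [Group G'] [Finite G'] (N' : Subgroup G') (φ : G' ≃* G)
    (hφ : ∀ n : N', φ n ∈ N) {ϑ : N → ℂ} {μ : G →* ℂˣ} {χ : G → ℂ} (h : IsExt N ϑ μ χ) :
    IsExt N' (fun n => ϑ ⟨φ n, hφ n⟩) (μ.comp φ.toMonoidHom) (fun g => χ (φ g)) := by
  obtain ⟨hi, hr, hd⟩ := h
  refine ⟨CharCore.isIrrCharacter_comp_surjective hi φ.toMonoidHom φ.surjective,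
    fun n => hr ⟨φ n, hφ n⟩, ?_⟩
  rw [← hd]
  exact detHom_comp (CharCore.IsIrrCharacter.isCharacter hi) φ.toMonoidHom

end

theorem isIrrCharacter_of_restrict {G : Type u} [Group G] [Finite G] (H : Subgroup G) {χ : G → ℂ}
    (hχ : Cfsg.IsCharacter G χ) (h : Cfsg.IsIrrCharacter H (fun x : H => χ x)) :
    Cfsg.IsIrrCharacter G χ := by
  classical
  have := Fintype.ofFinite G
  have := Fintype.ofFinite H
  obtain ⟨m, hm⟩ := CharCore.IsCharacter.exists_sum hχ
  have hres : ∀ ψ ψ' : Cfsg.IrrCharacter G, ∃ k : ℕ,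
      Cfsg.classInner (fun x : H => (ψ : G → ℂ) x) (fun x : H => (ψ' : G → ℂ) x) = k := fun ψ ψ' =>
    CharCore.IsCharacter.exists_classInner_eq_natCast
      (CharCore.isCharacter_restrict (CharCore.irr_isCharacter ψ) H)
      (CharCore.isCharacter_restrict (CharCore.irr_isCharacter ψ') H)
  choose k hk using hres
  have h1 : (fun x : H => χ x) = ∑ ψ, (m ψ : ℂ) • (fun x : H => (ψ : G → ℂ) x) := by
    funext x; simp [hm, Finset.sum_apply]
  have hsum : ∑ ψ, ∑ ψ', m ψ * m ψ' * k ψ ψ' = 1 := by
    have h2 := (CharCore.isIrrCharacter_iff.mp h).2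
    rw [h1] at h2
    simp only [CharCore.classInner_sum_left, CharCore.classInner_sum_right,
      CharCore.classInner_smul_left, CharCore.classInner_smul_right, hk, map_natCast] at h2
    apply Nat.cast_injective (R := ℂ)
    have hks : ∀ ψ ψ', k ψ' ψ = k ψ ψ' := fun ψ ψ' => Nat.cast_injective (R := ℂ) (by
      rw [← hk, ← hk, ← CharCore.conj_classInner, hk, map_natCast])
    push_cast
    rw [← h2]
    first
      | exact Finset.sum_congr rfl fun ψ _ => by
          rw [Finset.mul_sum]
          exact Finset.sum_congr rfl fun ψ' _ => by rw [hks ψ ψ']; ring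
      | exact Finset.sum_congr rfl fun ψ _ => Finset.sum_congr rfl fun ψ' _ => by ring
      | (rw [Finset.sum_comm]
         exact Finset.sum_congr rfl fun ψ _ => Finset.sum_congr rfl fun ψ' _ => by ring)
      | exact Finset.sum_congr rfl fun ψ _ => by
          rw [Finset.mul_sum]; exact Finset.sum_congr rfl fun ψ' _ => by ring
      | (rw [Finset.sum_comm]
         exact Finset.sum_congr rfl fun ψ _ => by
           rw [Finset.mul_sum]; exact Finset.sum_congr rfl fun ψ' _ => by ring)
  have hdiag : ∀ ψ, 1 ≤ k ψ ψ := by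
    intro ψ
    rcases Nat.eq_zero_or_pos (k ψ ψ) with h0 | h0
    swap
    · exact h0
    exfalso
    obtain ⟨l, hl⟩ := CharCore.IsCharacter.exists_sum
      (CharCore.isCharacter_restrict (CharCore.irr_isCharacter ψ) H)
    have h2 := hk ψ ψ
    rw [h0, Nat.cast_zero, hl, CharCore.classInner_sum_sum] at h2
    simp only [map_natCast] at h2
    have h3 : ∑ i, l i * l i = 0 := by exact_mod_cast h2
    have h4 := congrFun hl 1
    simp only [fun i => mul_self_eq_zero.mp (Finset.sum_eq_zero_iff.mp h3 i (Finset.mem_univ _)),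
      Nat.cast_zero, zero_smul, Finset.sum_const_zero, Pi.zero_apply, OneMemClass.coe_one] at h4
    exact CharCore.irr_apply_one_ne_zero ψ h4
  have hle : ∑ ψ, m ψ * m ψ ≤ 1 := by
    rw [← hsum]
    refine Finset.sum_le_sum fun ψ _ => le_trans ?_
      (Finset.single_le_sum (fun ψ' _ => Nat.zero_le (m ψ * m ψ' * k ψ ψ')) (Finset.mem_univ ψ))
    exact Nat.le_mul_of_pos_right _ (hdiag ψ)
  rw [CharCore.isIrrCharacter_iff]
  refine ⟨hχ, ?_⟩
  rw [hm, CharCore.classInner_sum_sum]
  simp only [map_natCast]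
  rcases (by omega : ∑ ψ, m ψ * m ψ = 0 ∨ ∑ ψ, m ψ * m ψ = 1) with h0 | h0
  · exfalso
    have hz : ∀ ψ, m ψ = 0 := fun ψ =>
      mul_self_eq_zero.mp (Finset.sum_eq_zero_iff.mp h0 ψ (Finset.mem_univ _))
    simp [hz] at hsum
  · exact_mod_cast h0

/-- Extension to an overgroup with solvable quotient. -/
theorem exists_isExt_solvable : ∀ (j : ℕ) {G : Type u} [Group G] [Finite G] (N : Subgroup G)
    [N.Normal], N.index ≤ j → Group.IsSolvable (G ⧸ N) → ∀ {ϑ : N → ℂ}, Cfsg.IsIrrCharacter N ϑ →
    Inv N ϑ → ∀ {d : ℕ}, ϑ 1 = d → Nat.Coprime N.index d → ∀ (μ : G →* ℂˣ),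
    (∀ n : N, μ n = detHom ϑ n) → ∃ χ, IsExt N ϑ μ χ := by
  intro j
  induction j with
  | zero =>
    intro G _ _ N _ hj
    exact absurd (Nat.le_zero.mp hj) Subgroup.index_ne_zero_of_finite
  | succ j ih =>
    intro G _ _ N _ hj hs ϑ hϑ hinv d hd hcop μ hμ
    by_cases h1 : N.index = 1
    · have hN : N = ⊤ := Subgroup.index_eq_one.mp h1
      let π : G →* N := (MonoidHom.id G).codRestrict N fun g => hN ▸ Subgroup.mem_top g
      refine (existsUnique_det N hϑ hd hcop (η := fun g => ϑ (π g))
        (CharCore.isIrrCharacter_comp_surjective hϑ π fun n => ⟨n, rfl⟩) (fun n => rfl) μ hμ).exists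
    · obtain ⟨M, hMn, hNM, hMp⟩ := exists_normal_prime_index N h1
      set N' := N.subgroupOf M with hN'
      have hmul : N.relIndex M * M.index = N.index := Subgroup.relIndex_mul_index hNM
      have hidx : N'.index ∣ N.index := ⟨M.index, hmul.symm⟩
      have hlt : N'.index ≤ j := by
        have h2 := hMp.two_le
        have h3 : N'.index ≠ 0 := Subgroup.index_ne_zero_of_finite
        have h4 : N'.index * 2 ≤ N.index := hmul ▸ Nat.mul_le_mul_left _ h2
        omega
      haveI hs' : Group.IsSolvable (M ⧸ N') := by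
        let f : M ⧸ N' →* G ⧸ N := QuotientGroup.map N' N M.subtype (fun x hx => hx)
        have hf : Function.Injective f := by
          rw [← MonoidHom.ker_eq_bot_iff, show f.ker = _ from QuotientGroup.ker_map N' N M.subtype _]
          refine (Subgroup.map_eq_bot_iff _).mpr ?_
          rw [QuotientGroup.ker_mk']
          exact le_refl _
        exact Group.isSolvable_of_isSolvable_injective hf
      let e := Subgroup.subgroupOfEquivOfLe hNM
      have hϑ' : Cfsg.IsIrrCharacter N' (fun x : N' => ϑ (e x)) :=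
        CharCore.isIrrCharacter_comp_surjective hϑ e.toMonoidHom e.surjective
      have hinv' : Inv N' (fun x : N' => ϑ (e x)) := fun g n => hinv (g : G) (e n)
      have hd' : (fun x : N' => ϑ (e x)) 1 = d := by simp only [map_one]; exact hd
      have hμ' : ∀ n : N', (μ.comp M.subtype) n = detHom (fun x : N' => ϑ (e x)) n := by
        intro n
        rw [show detHom (fun x : N' => ϑ (e x)) = (detHom ϑ).comp e.toMonoidHom from
          detHom_comp (CharCore.IsIrrCharacter.isCharacter hϑ) e.toMonoidHom]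
        exact hμ (e n)
      obtain ⟨χM, hM⟩ := ih N' hlt hs' hϑ' hinv' hd' (hcop.coprime_dvd_left hidx) _ hμ'
      have huniq := existsUnique_det N' hϑ' hd' (hcop.coprime_dvd_left hidx) hM.1 hM.2.1 _ hμ'
      have hMinv : Inv M χM := by
        intro g m
        let φ : M ≃* M := MulAut.conjNormal g
        have hφ : ∀ n : N', φ n ∈ N' := fun n => by
          rw [Subgroup.mem_subgroupOf, MulAut.conjNormal_apply]
          exact Subgroup.Normal.conj_mem inferInstance _ (Subgroup.mem_subgroupOf.mp n.2) g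
        have h3 := isExt_comp_equiv N' N' φ hφ hM
        have e1 : (fun n : N' => ϑ (e ⟨φ n, hφ n⟩)) = fun n => ϑ (e n) := funext fun n => by
          rw [← hinv g (e n)]
          exact congrArg ϑ (Subtype.ext (MulAut.conjNormal_apply g (n : M)))
        have e2 : (μ.comp M.subtype).comp φ.toMonoidHom = μ.comp M.subtype := by
          ext m
          simp [φ, MulAut.conjNormal_apply]
        rw [e1, e2] at h3
        have h4 := huniq.unique h3 hM
        have h5 := congrFun h4 m
        rw [← h5]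
        exact congrArg χM (Subtype.ext (MulAut.conjNormal_apply g m).symm)
      obtain ⟨β, hβ, hβM⟩ := exists_ext_prime M hM.1 hMinv hMp
      refine (existsUnique_det N hϑ hd hcop hβ (fun n => ?_) μ hμ).exists
      have h6 := hM.2.1 (e.symm n)
      simp only [MulEquiv.apply_symm_apply] at h6
      rw [← h6, ← hβM]
      rfl

section General

variable {G : Type u} [Group G] [Finite G] (N : Subgroup G) [hN : N.Normal]

theorem isSolvable_elementary {E : Type*} [Group E] [Finite E] {p : ℕ} (hp : p.Prime)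
    (h : Cfsg.IsElementary p E) : Group.IsSolvable E := by
  obtain ⟨x, hx, -, k, hk⟩ := h
  haveI := Fact.mk hp
  haveI : (Subgroup.zpowers x).Normal := ⟨fun y hy g => by
    rwa [Subgroup.mem_center_iff.mp (Subgroup.zpowers_le.mpr hx hy) g, mul_inv_cancel_right]⟩
  have hP : IsPGroup p (E ⧸ Subgroup.zpowers x) :=
    IsPGroup.of_card (n := k) (by rw [← Subgroup.index_eq_card, hk])
  haveI := hP.isNilpotent
  haveI : Group.IsSolvable (E ⧸ Subgroup.zpowers x) := inferInstance
  exact Group.isSolvable_of_ker_le_range (Subgroup.zpowers x).subtype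
    (QuotientGroup.mk' (Subgroup.zpowers x)) (by rw [QuotientGroup.ker_mk', Subgroup.range_subtype])

variable (ϑ : N → ℂ) (μ : G →* ℂˣ)

/-- The canonical extension to an intermediate subgroup. -/
def IsExtOn (H : Subgroup G) (hNH : N ≤ H) (ψ : H → ℂ) : Prop :=
  IsExt (N.subgroupOf H) (fun n => ϑ (Subgroup.subgroupOfEquivOfLe hNH n)) (μ.comp H.subtype) ψ

variable {N ϑ μ} (hϑ : Cfsg.IsIrrCharacter N ϑ) {d : ℕ} (hd : ϑ 1 = d) (hcop : Nat.Coprime N.index d)
  (hμ : ∀ n : N, μ n = detHom ϑ n)

include hϑ hd hcop hμ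

theorem IsExtOn.unique {H : Subgroup G} {hNH : N ≤ H} {ψ ψ' : H → ℂ}
    (h : IsExtOn N ϑ μ H hNH ψ) (h' : IsExtOn N ϑ μ H hNH ψ') : ψ = ψ' := by
  let e := Subgroup.subgroupOfEquivOfLe hNH
  refine (existsUnique_det (N.subgroupOf H)
    (CharCore.isIrrCharacter_comp_surjective hϑ e.toMonoidHom e.surjective) (d := d)
    (by simp [hd]) (hcop.coprime_dvd_left ⟨H.index, (Subgroup.relIndex_mul_index hNH).symm⟩)
    h.1 h.2.1 _ (fun n => ?_)).unique h h'
  rw [detHom_comp (CharCore.IsIrrCharacter.isCharacter hϑ) e.toMonoidHom]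
  exact hμ (e n)

theorem exists_isExtOn (hinv : Inv N ϑ) (X H : Subgroup G) [Group.IsSolvable X] (hH : H = N ⊔ X) :
    ∃ ψ, IsExtOn N ϑ μ H (hH ▸ le_sup_left) ψ := by
  have hNH : N ≤ H := hH ▸ le_sup_left
  have hXH : X ≤ H := hH ▸ le_sup_right
  haveI : Group.IsSolvable (H ⧸ N.subgroupOf H) := by
    refine Group.isSolvable_of_surjective
      (f := (QuotientGroup.mk' (N.subgroupOf H)).comp (Subgroup.inclusion hXH)) ?_
    intro q
    obtain ⟨⟨h, hh⟩, rfl⟩ := QuotientGroup.mk'_surjective _ q
    have hh' : h ∈ X ⊔ N := by rw [sup_comm, ← hH]; exact hh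
    obtain ⟨x, hx, n, hn, rfl⟩ := Subgroup.mem_sup_of_normal_right.mp hh'
    refine ⟨⟨x, hx⟩, ?_⟩
    rw [MonoidHom.comp_apply, QuotientGroup.mk'_apply, QuotientGroup.mk'_apply, QuotientGroup.eq,
      Subgroup.mem_subgroupOf]
    simpa [← mul_assoc] using hn
  let e := Subgroup.subgroupOfEquivOfLe hNH
  refine exists_isExt_solvable _ (N.subgroupOf H) le_rfl inferInstance
    (CharCore.isIrrCharacter_comp_surjective hϑ e.toMonoidHom e.surjective)
    (fun g n => hinv (g : G) (e n)) (d := d) (by simp [hd])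
    (hcop.coprime_dvd_left ⟨H.index, (Subgroup.relIndex_mul_index hNH).symm⟩) _ (fun n => ?_)
  rw [detHom_comp (CharCore.IsIrrCharacter.isCharacter hϑ) e.toMonoidHom]
  exact hμ (e n)

omit hd hcop hμ in
theorem IsExtOn.restrict {H K : Subgroup G} {hNH : N ≤ H} {ψ : H → ℂ}
    (h : IsExtOn N ϑ μ H hNH ψ) (hNK : N ≤ K) (hKH : K ≤ H) :
    IsExtOn N ϑ μ K hNK (fun k => ψ (Subgroup.inclusion hKH k)) := by
  have hc := CharCore.isCharacter_comp (CharCore.IsIrrCharacter.isCharacter h.1)
    (Subgroup.inclusion hKH)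
  have hres : ∀ n : N.subgroupOf K, ψ (Subgroup.inclusion hKH n) =
      ϑ (Subgroup.subgroupOfEquivOfLe hNK n) := fun n => h.2.1 ⟨⟨(n : G), hKH n.1.2⟩, n.2⟩
  refine ⟨isIrrCharacter_of_restrict (N.subgroupOf K) hc ?_, hres, ?_⟩
  · rw [show (fun x : N.subgroupOf K => ψ (Subgroup.inclusion hKH x)) =
      fun x => ϑ (Subgroup.subgroupOfEquivOfLe hNK x) from funext hres]
    exact CharCore.isIrrCharacter_comp_surjective hϑ (Subgroup.subgroupOfEquivOfLe hNK).toMonoidHom
      (Subgroup.subgroupOfEquivOfLe hNK).surjective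
  · rw [detHom_comp (CharCore.IsIrrCharacter.isCharacter h.1) (Subgroup.inclusion hKH), h.2.2]
    rfl

/-- An invariant character of coprime degree extends when its determinant does. -/
theorem exists_ext (hinv : Inv N ϑ) : ∃ χ, IsExt N ϑ μ χ := by
  classical
  have := Fintype.ofFinite G
  have := Fintype.ofFinite N
  have hcyc : ∀ g : G, ∃ ψ, IsExtOn N ϑ μ (N ⊔ Subgroup.zpowers g) le_sup_left ψ := fun g =>
    exists_isExtOn hϑ hd hcop hμ hinv (Subgroup.zpowers g) _ rfl
  choose ext hext using hcyc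
  set χ : G → ℂ := fun g => ext g ⟨g, Subgroup.mem_sup_right (Subgroup.mem_zpowers g)⟩ with hχ
  have hcons : ∀ {H : Subgroup G} {hNH : N ≤ H} {ψ : H → ℂ}, IsExtOn N ϑ μ H hNH ψ →
      ∀ h : H, χ h = ψ h := by
    intro H hNH ψ hψ h
    have hle : N ⊔ Subgroup.zpowers (h : G) ≤ H := sup_le hNH (Subgroup.zpowers_le.mpr h.2)
    rw [hχ]
    simp only
    rw [IsExtOn.unique hϑ hd hcop hμ (hext (h : G)) (IsExtOn.restrict hϑ hψ le_sup_left hle)]
    rfl
  have hcf : Cfsg.IsClassFunction G χ := by
    intro g h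
    set H := N ⊔ Subgroup.zpowers g with hH
    set H' := H.map (MulAut.conj h).toMonoidHom with hH'
    have hNH' : N ≤ H' := by
      intro n hn
      refine ⟨h⁻¹ * n * h, Subgroup.mem_sup_left ?_, by simp [mul_assoc]⟩
      simpa using Subgroup.Normal.conj_mem hN n hn h⁻¹
    let φ : H' ≃* H := (H.equivMapOfInjective _ (MulAut.conj h).injective).symm
    have hφv : ∀ x : H', (x : G) = h * (φ x : G) * h⁻¹ := fun x => by
      conv_lhs => rw [← φ.symm_apply_apply x]
      rfl
    have hφN : ∀ n : N.subgroupOf H', φ n ∈ N.subgroupOf H := fun n => by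
      rw [Subgroup.mem_subgroupOf]
      have h1 := Subgroup.Normal.conj_mem hN _ (Subgroup.mem_subgroupOf.mp n.2) h⁻¹
      rw [hφv, inv_inv] at h1
      simpa [mul_assoc] using h1
    have h3 := isExt_comp_equiv (N.subgroupOf H) (N.subgroupOf H') φ hφN (hext g)
    have e1 : (fun n : N.subgroupOf H' => ϑ (Subgroup.subgroupOfEquivOfLe
        (le_sup_left : N ≤ N ⊔ Subgroup.zpowers g) ⟨φ n, hφN n⟩)) =
        fun n => ϑ (Subgroup.subgroupOfEquivOfLe hNH' n) := funext fun n => by
      rw [← hinv h (Subgroup.subgroupOfEquivOfLe _ ⟨φ n, hφN n⟩)]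
      exact congrArg ϑ (Subtype.ext (hφv n).symm)
    have e2 : (μ.comp H.subtype).comp φ.toMonoidHom = μ.comp H'.subtype := by
      ext x
      simp [hφv x]
    rw [e1, e2] at h3
    have hgH : h * g * h⁻¹ ∈ H' := ⟨g, Subgroup.mem_sup_right (Subgroup.mem_zpowers g), rfl⟩
    have h4 := hcons (hNH := hNH') h3 ⟨h * g * h⁻¹, hgH⟩
    rw [h4]
    change ext g _ = ext g _
    congr 1
    have h5 := hφv ⟨h * g * h⁻¹, hgH⟩
    exact Subtype.ext (mul_left_cancel (mul_right_cancel h5)).symm
  have hgen : Cfsg.IsGeneralizedCharacter G χ := by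
    refine CharInd.isGeneralizedCharacter_of_elementary hcf fun E p hp hE => ?_
    haveI := isSolvable_elementary hp hE
    obtain ⟨ψ, hψ⟩ := exists_isExtOn hϑ hd hcop hμ hinv E (N ⊔ E) rfl
    have : (fun e : E => χ e) = fun e => ψ (Subgroup.inclusion (le_sup_right : E ≤ N ⊔ E) e) :=
      funext fun e => hcons hψ (Subgroup.inclusion (le_sup_right : E ≤ N ⊔ E) e)
    rw [this]
    exact CharCore.IsCharacter.isGeneralized
      (CharCore.isCharacter_comp (CharCore.IsIrrCharacter.isCharacter hψ.1) _)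
  have hres : ∀ n : N, χ n = ϑ n := by
    intro n
    have h1 := (hext (n : G)).2.1
      ⟨⟨n, Subgroup.mem_sup_right (Subgroup.mem_zpowers _)⟩, n.2⟩
    exact h1
  have havg : avg N (fun g => χ g * conj (χ g)) = 1 := by
    funext g
    set H := N ⊔ Subgroup.zpowers g with hH
    have hrN : Cfsg.IsIrrCharacter (N.subgroupOf H) (fun n : N.subgroupOf H => ext g n) := by
      rw [show (fun n : N.subgroupOf H => ext g n) = fun n => ϑ (Subgroup.subgroupOfEquivOfLe
        (le_sup_left : N ≤ H) n) from funext (hext g).2.1]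
      exact CharCore.isIrrCharacter_comp_surjective hϑ
        (Subgroup.subgroupOfEquivOfLe (le_sup_left : N ≤ H)).toMonoidHom
        (Subgroup.subgroupOfEquivOfLe (le_sup_left : N ≤ H)).surjective
    have h1 := congrFun (avg_mul_conj_self (hext g).1 hrN)
      ⟨g, Subgroup.mem_sup_right (Subgroup.mem_zpowers g)⟩
    rw [avg_apply, Pi.one_apply,
      Nat.card_congr (Subgroup.subgroupOfEquivOfLe (le_sup_left : N ≤ H)).toEquiv] at h1
    rw [avg_apply, Pi.one_apply, ← h1]
    congr 1
    refine Fintype.sum_equiv (Subgroup.subgroupOfEquivOfLe (le_sup_left : N ≤ H)).symm.toEquiv _ _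
      fun n => ?_
    rw [show χ ((n : G) * g) = ext g ((⟨(n : G), Subgroup.mem_sup_left n.2⟩ : H) *
      ⟨g, Subgroup.mem_sup_right (Subgroup.mem_zpowers g)⟩) from
      hcons (hext g) ((⟨(n : G), Subgroup.mem_sup_left n.2⟩ : H) *
        ⟨g, Subgroup.mem_sup_right (Subgroup.mem_zpowers g)⟩)]
    rfl
  have hnorm : Cfsg.classInner χ χ = 1 := by
    have h1 := classInner_avg N (f := fun g => χ g * conj (χ g)) (β := (1 : G → ℂ)) (fun _ _ => rfl)
    rw [havg] at h1
    have h2 : Cfsg.classInner (1 : G → ℂ) 1 = 1 :=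
      (CharCore.isIrrCharacter_iff.mp CharCore.isIrrCharacter_one).2
    rw [← h2, h1]
    simp [CharCore.classInner_def]
  have hpos : 0 < (χ 1).re := by
    rw [show χ 1 = (d : ℂ) by rw [← hd, ← hres 1]; rfl, Complex.natCast_re]
    obtain ⟨n, hn, h⟩ := CharCore.IsIrrCharacter.exists_degree hϑ
    rw [hd, Nat.cast_inj] at h
    exact_mod_cast h ▸ hn
  exact (existsUnique_det N hϑ hd hcop
    (CharCore.IsGeneralizedCharacter.isIrr_of_norm_one hgen hnorm hpos) hres μ hμ).exists

end General

end Cfsg.Agent.CharDeep.Ext
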