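import Cfsg.Agent.CharDeep.Ext.Avg

/-! Invariant irreducible characters of normal subgroups and constituents of their inductions. -/

namespace Cfsg.Agent.CharDeep.Ext

open scoped ComplexConjugate

variable {G : Type*} [Group G] (N : Subgroup G) [hN : N.Normal]

/-- Invariance of a function on a normal subgroup under conjugation. -/
def Inv (φ : N → ℂ) : Prop :=
  ∀ (g : G) (n : N), φ ⟨g * n * g⁻¹, hN.conj_mem (n : G) n.2 g⟩ = φ n

theorem inv_restrict {χ : G → ℂ} (hχ : Cfsg.IsClassFunction G χ) : Inv N (fun n : N => χ n) :=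
  fun g n => hχ n g

theorem inv_mul {φ θ : N → ℂ} (hφ : Inv N φ) (hθ : Inv N θ) : Inv N (φ * θ) := fun g n => by
  simp only [Pi.mul_apply, hφ g n, hθ g n]

variable [Fintype G]

theorem indFun_coe {φ : N → ℂ} (hφ : Inv N φ) (n : N) :
    Cfsg.indFun N φ n = (N.index : ℂ) * φ n := by
  have hterm : ∀ x : G, Cfsg.extendByZero N φ (x⁻¹ * (n : G) * x) = φ n := by
    intro x
    have hm : x⁻¹ * (n : G) * x⁻¹⁻¹ ∈ N := hN.conj_mem (n : G) n.2 x⁻¹
    rw [inv_inv] at hm
    rw [CharInd.extendByZero_mem _ hm]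
    rw [← hφ x⁻¹ n]
    exact congrArg φ (Subtype.ext (by simp))
  rw [CharInd.indFun_apply, Finset.sum_congr rfl (fun x _ => hterm x), Finset.sum_const,
    Finset.card_univ, nsmul_eq_mul, Fintype.card_eq_nat_card, ← N.card_mul_index, Nat.cast_mul,
    mul_assoc, inv_mul_cancel_left₀ (CharInd.natCard_subgroup_ne_zero N)]

theorem indFun_notMem (φ : N → ℂ) {g : G} (hg : g ∉ N) : Cfsg.indFun N φ g = 0 :=
  CharInd.indFun_eq_zero_of_forall_notMem N φ fun x hx => hg (by
    have := hN.conj_mem _ hx x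
    simpa [mul_assoc] using this)

variable [Fintype N]

theorem classInner_indFun_self {φ : N → ℂ} (hφ : Inv N φ) (hi : Cfsg.IsIrrCharacter N φ) :
    Cfsg.classInner (Cfsg.indFun N φ) (Cfsg.indFun N φ) = (N.index : ℂ) := by
  rw [CharInd.classInner_indFun_left N φ (CharInd.isClassFunction_indFun N φ)]
  have : (fun n : N => Cfsg.indFun N φ n) = (N.index : ℂ) • φ := funext fun n => indFun_coe N hφ n
  rw [this, CharCore.classInner_smul_right, (CharCore.isIrrCharacter_iff.mp hi).2, mul_one,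
    map_natCast]

theorem classInner_indFun_eq_natCast {φ : N → ℂ} (hc : Cfsg.IsCharacter N φ)
    (β : Cfsg.IrrCharacter G) :
    ∃ k : ℕ, Cfsg.classInner (Cfsg.indFun N φ) β = k ∧
      Cfsg.classInner (fun n : N => (β : G → ℂ) n) φ = k := by
  obtain ⟨k, hk⟩ := CharCore.IsCharacter.exists_classInner_irr_eq_natCast
    (CharInd.isCharacter_indFun N hc) β
  refine ⟨k, hk, ?_⟩
  rw [← CharInd.classInner_indFun_right N φ (CharCore.irr_isClassFunction β),
    ← CharCore.conj_classInner, hk, map_natCast]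

/-- An irreducible character over an invariant irreducible character restricts to a multiple. -/
theorem restrict_eq_smul {φ : N → ℂ} (hφ : Inv N φ) (hi : Cfsg.IsIrrCharacter N φ) {β : G → ℂ}
    (hβ : Cfsg.IsIrrCharacter G β) (hne : Cfsg.classInner (fun n : N => β n) φ ≠ 0) :
    (fun n : N => β n) = Cfsg.classInner (fun n : N => β n) φ • φ := by
  have hφc := CharCore.IsIrrCharacter.isCharacter hi
  have hI := CharInd.isCharacter_indFun N hφc
  have hzero : ∀ θ : Cfsg.IrrCharacter N, (θ : N → ℂ) ≠ φ →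
      Cfsg.classInner (fun n : N => β n) θ = 0 := by
    intro θ hθ
    obtain ⟨m, hm⟩ := CharCore.IsCharacter.exists_sum hI
    have hres : ∀ ψ : Cfsg.IrrCharacter G, ∃ k : ℕ,
        Cfsg.classInner (fun n : N => (ψ : G → ℂ) n) θ = k := fun ψ =>
      CharCore.IsCharacter.exists_classInner_irr_eq_natCast
        (CharCore.isCharacter_restrict (CharCore.irr_isCharacter ψ) N) θ
    choose k hk using hres
    have h0 : ∑ ψ, (m ψ : ℂ) * (k ψ : ℂ) = 0 := by
      have h1 : (fun n : N => Cfsg.indFun N φ n) = (N.index : ℂ) • φ :=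
        funext fun n => indFun_coe N hφ n
      have h2 : (fun n : N => Cfsg.indFun N φ n) =
          ∑ ψ, (m ψ : ℂ) • (fun n : N => (ψ : G → ℂ) n) := by
        funext n; simp [hm, Finset.sum_apply]
      have h3 := congrArg (fun f => Cfsg.classInner f (θ : N → ℂ)) (h1.symm.trans h2)
      simp only [CharCore.classInner_smul_left, CharCore.classInner_sum_left, hk] at h3
      rw [← h3, CharCore.classInner_irr_of_ne (χ := (⟨φ, hi⟩ : Cfsg.IrrCharacter N))
        (fun h => hθ (congrArg Subtype.val h).symm), mul_zero]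
    have h0' : ∑ ψ, m ψ * k ψ = 0 := by exact_mod_cast h0
    have h4 := (Finset.sum_eq_zero_iff.mp h0') ⟨β, hβ⟩ (Finset.mem_univ _)
    obtain ⟨j, hj1, hj2⟩ := classInner_indFun_eq_natCast N hφc ⟨β, hβ⟩
    rw [hm, CharCore.classInner_sum_all] at hj1
    have hj0 : m ⟨β, hβ⟩ ≠ 0 := by
      intro h
      apply hne
      rw [hj2, ← hj1, h, Nat.cast_zero]
    rw [hk ⟨β, hβ⟩, (mul_eq_zero.mp h4).resolve_left hj0, Nat.cast_zero]
  conv_lhs => rw [CharCore.IsCharacter.eq_sum_classInner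
    (CharCore.isCharacter_restrict (CharCore.IsIrrCharacter.isCharacter hβ) N)]
  rw [Finset.sum_eq_single (⟨φ, hi⟩ : Cfsg.IrrCharacter N)]
  · intro θ _ hθ
    rw [hzero θ (fun h => hθ (Subtype.ext h)), zero_smul]
  · intro h; exact absurd (Finset.mem_univ _) h

/-- Gallagher's correspondence over a product of invariant characters. -/
theorem bijOn_mul {φ ϑ : N → ℂ} (hφ : Cfsg.IsIrrCharacter N φ) (hφinv : Inv N φ)
    (hprod : Cfsg.IsIrrCharacter N (φ * ϑ)) (hϑinv : Inv N ϑ) {χ : G → ℂ}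
    (hχ : Cfsg.IsIrrCharacter G χ) (hext : ∀ n : N, χ n = ϑ n) :
    Set.BijOn (fun β : G → ℂ => β * χ)
      {β : G → ℂ | Cfsg.IsIrrCharacter G β ∧ Cfsg.classInner (Cfsg.indFun N φ) β ≠ 0}
      {ψ : G → ℂ | Cfsg.IsIrrCharacter G ψ ∧
        Cfsg.classInner (Cfsg.indFun N (φ * ϑ)) ψ ≠ 0} := by
  classical
  obtain ⟨a, ha⟩ := CharCore.IsCharacter.exists_sum
    (CharInd.isCharacter_indFun N (CharCore.IsIrrCharacter.isCharacter hφ))
  have hacoef : ∀ β : Cfsg.IrrCharacter G,
      Cfsg.classInner (Cfsg.indFun N φ) β = a β := fun β => by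
    rw [ha, CharCore.classInner_sum_all]
  have hind : Cfsg.indFun N (φ * ϑ) = ∑ β : Cfsg.IrrCharacter G, (a β : ℂ) • ((β : G → ℂ) * χ) := by
    have h1 : φ * ϑ = fun n : N => φ n * χ n := funext fun n => by rw [hext]; rfl
    rw [h1, ← CharInd.indFun_mul N φ (CharCore.IsCharacter.isClassFunction
      (CharCore.IsIrrCharacter.isCharacter hχ)), ha, Finset.sum_mul]
    exact Finset.sum_congr rfl fun β _ => by rw [smul_mul_assoc]
  have hmulchar : ∀ β : Cfsg.IrrCharacter G, Cfsg.IsCharacter G ((β : G → ℂ) * χ) := fun β =>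
    CharCore.isCharacter_mul (CharCore.irr_isCharacter β) (CharCore.IsIrrCharacter.isCharacter hχ)
  choose M hM using fun β β' : Cfsg.IrrCharacter G =>
    CharCore.IsCharacter.exists_classInner_eq_natCast (hmulchar β) (hmulchar β')
  have hdiag : ∀ β, 1 ≤ M β β := by
    intro β
    rcases Nat.eq_zero_or_pos (M β β) with h | h
    swap
    · exact h
    exfalso
    have h0 := hM β β
    rw [h, Nat.cast_zero] at h0
    obtain ⟨l, hl⟩ := CharCore.IsCharacter.exists_sum (hmulchar β)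
    rw [hl, CharCore.classInner_sum_sum] at h0
    simp only [map_natCast] at h0
    have h0' : ∑ ψ, l ψ * l ψ = 0 := by exact_mod_cast h0
    have hl0 : ∀ ψ, l ψ = 0 := fun ψ =>
      mul_self_eq_zero.mp (Finset.sum_eq_zero_iff.mp h0' ψ (Finset.mem_univ _))
    have h1 := congrFun hl 1
    simp only [hl0, Nat.cast_zero, zero_smul, Finset.sum_const_zero, Pi.zero_apply,
      Pi.mul_apply] at h1
    rcases mul_eq_zero.mp h1 with h2 | h2
    · exact CharCore.irr_apply_one_ne_zero β h2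
    · exact CharCore.irr_apply_one_ne_zero ⟨χ, hχ⟩ h2
  have hsq : ∑ β, ∑ β', a β * a β' * M β β' = ∑ β, ∑ β', (if β = β' then a β * a β else 0) := by
    have e1 := classInner_indFun_self N (inv_mul N hφinv hϑinv) hprod
    have e2 := classInner_indFun_self N hφinv hφ
    rw [hind] at e1
    rw [ha, CharCore.classInner_sum_sum] at e2
    simp only [CharCore.classInner_sum_left, CharCore.classInner_sum_right,
      CharCore.classInner_smul_left, CharCore.classInner_smul_right, hM, map_natCast] at e1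
    simp only [map_natCast] at e2
    simp only [Finset.sum_ite_eq, Finset.mem_univ, if_true]
    apply Nat.cast_injective (R := ℂ)
    push_cast
    rw [e2, ← e1]
    rw [Finset.sum_comm]
    exact Finset.sum_congr rfl fun β _ => by
      rw [Finset.mul_sum]
      exact Finset.sum_congr rfl fun β' _ => by ring
  have hle : ∀ β β', (if β = β' then a β * a β else 0) ≤ a β * a β' * M β β' := by
    intro β β'
    split_ifs with h
    · subst h; exact Nat.le_mul_of_pos_right _ (hdiag β)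
    · exact Nat.zero_le _
  have hpt : ∀ β β', (if β = β' then a β * a β else 0) = a β * a β' * M β β' := by
    intro β β'
    have h1 := (Finset.sum_eq_sum_iff_of_le fun b _ => Finset.sum_le_sum fun b' _ => hle b b').mp
      hsq.symm β (Finset.mem_univ _)
    exact (Finset.sum_eq_sum_iff_of_le fun b' _ => hle β b').mp h1 β' (Finset.mem_univ _)
  have hirr : ∀ β, a β ≠ 0 → Cfsg.IsIrrCharacter G ((β : G → ℂ) * χ) := by
    intro β hβ
    rw [CharCore.isIrrCharacter_iff]
    refine ⟨hmulchar β, ?_⟩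
    have h := hpt β β
    rw [if_pos rfl] at h
    have hM1 : M β β = 1 :=
      Nat.eq_of_mul_eq_mul_left (Nat.pos_of_ne_zero (mul_ne_zero hβ hβ)) (by rw [mul_one]; exact h.symm)
    rw [hM, hM1, Nat.cast_one]
  have hcoef : ∀ β : Cfsg.IrrCharacter G, a β ≠ 0 →
      Cfsg.classInner (Cfsg.indFun N (φ * ϑ)) ((β : G → ℂ) * χ) = a β := by
    intro β hβ
    rw [hind, CharCore.classInner_sum_left, Finset.sum_eq_single β]
    · rw [CharCore.classInner_smul_left, (CharCore.isIrrCharacter_iff.mp (hirr β hβ)).2, mul_one]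
    · intro β' _ hne
      rw [CharCore.classInner_smul_left, hM]
      have h := hpt β' β
      rw [if_neg hne] at h
      have h' := mul_eq_zero.mp h.symm
      rcases h' with h' | h'
      · rw [(mul_eq_zero.mp h').resolve_right hβ, Nat.cast_zero, zero_mul]
      · rw [h', Nat.cast_zero, mul_zero]
    · intro h; exact absurd (Finset.mem_univ _) h
  refine ⟨?_, ?_, ?_⟩
  · rintro β ⟨hβ, hne⟩
    have ha0 : a ⟨β, hβ⟩ ≠ 0 := fun h => hne (by rw [hacoef ⟨β, hβ⟩, h, Nat.cast_zero])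
    refine ⟨hirr ⟨β, hβ⟩ ha0, ?_⟩
    change Cfsg.classInner (Cfsg.indFun N (φ * ϑ)) (β * χ) ≠ 0
    rw [hcoef ⟨β, hβ⟩ ha0]
    exact_mod_cast ha0
  · rintro β ⟨hβ, hne⟩ β' ⟨hβ', hne'⟩ heq
    have ha0 : a ⟨β, hβ⟩ ≠ 0 := fun h => hne (by rw [hacoef ⟨β, hβ⟩, h, Nat.cast_zero])
    have ha0' : a ⟨β', hβ'⟩ ≠ 0 := fun h => hne' (by rw [hacoef ⟨β', hβ'⟩, h, Nat.cast_zero])
    by_contra hcon
    have h := hpt ⟨β, hβ⟩ ⟨β', hβ'⟩
    rw [if_neg (fun h' => hcon (congrArg Subtype.val h'))] at h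
    have h1 : (M ⟨β, hβ⟩ ⟨β', hβ'⟩ : ℂ) = 1 := by
      rw [← hM, show ((⟨β', hβ'⟩ : Cfsg.IrrCharacter G) : G → ℂ) * χ = β * χ from heq.symm]
      exact (CharCore.isIrrCharacter_iff.mp (hirr ⟨β, hβ⟩ ha0)).2
    rw [Nat.cast_eq_one] at h1
    rw [h1, mul_one] at h
    exact mul_ne_zero ha0 ha0' h.symm
  · rintro ψ ⟨hψ, hne⟩
    rw [hind, CharCore.classInner_sum_left] at hne
    obtain ⟨β, -, hβne⟩ := Finset.exists_ne_zero_of_sum_ne_zero hne
    rw [CharCore.classInner_smul_left] at hβne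
    obtain ⟨ha0, hin⟩ := mul_ne_zero_iff.mp hβne
    have ha0' : a β ≠ 0 := fun h => ha0 (by rw [h, Nat.cast_zero])
    refine ⟨β, ⟨β.2, by rw [hacoef]; exact ha0⟩, ?_⟩
    by_contra hcon
    exact hin (CharCore.classInner_irr_of_ne
      (χ := (⟨_, hirr β ha0'⟩ : Cfsg.IrrCharacter G)) (ψ := ⟨ψ, hψ⟩)
      (fun h => hcon (congrArg Subtype.val h)))

end Cfsg.Agent.CharDeep.Ext
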