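import Cfsg.Agent.CharDeep.Ext.Inertia
import Cfsg.Agent.Lib.CharInd.Monomial

/-! Restriction across an abelian chief factor (the going-down theorem). -/

namespace Cfsg.Agent.CharDeep.Ext

open scoped ComplexConjugate

variable {K : Type*} [Group K] (L : Subgroup K) [hL : L.Normal]

/-- The conjugate of a function on a normal subgroup. -/
def conjFn (φ : L → ℂ) (x : K) : L → ℂ :=
  fun n => φ ⟨x * n * x⁻¹, hL.conj_mem (n : K) n.2 x⟩

theorem conjFn_conjFn (φ : L → ℂ) (x y : K) : conjFn L (conjFn L φ x) y = conjFn L φ (x * y) := by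
  funext n
  exact congrArg φ (Subtype.ext (by simp [mul_assoc]))

theorem conjFn_one (φ : L → ℂ) : conjFn L φ 1 = φ := by
  funext n
  exact congrArg φ (Subtype.ext (by simp))

/-- The inertia group of a function on a normal subgroup. -/
def inertia (φ : L → ℂ) : Subgroup K where
  carrier := {x | conjFn L φ x = φ}
  one_mem' := conjFn_one L φ
  mul_mem' := fun {x y} (hx : conjFn L φ x = φ) (hy : conjFn L φ y = φ) => by
    change conjFn L φ (x * y) = φ
    rw [← conjFn_conjFn, hx, hy]
  inv_mem' := fun {x} (hx : conjFn L φ x = φ) => by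
    change conjFn L φ x⁻¹ = φ
    conv_lhs => rw [← hx]
    rw [conjFn_conjFn, mul_inv_cancel, conjFn_one]

theorem le_inertia {φ : L → ℂ} (hφ : Cfsg.IsClassFunction L φ) : L ≤ inertia L φ := fun x hx => by
  funext n
  exact (congrArg φ (Subtype.ext (by simp))).trans (hφ n ⟨x, hx⟩)

theorem isIrrCharacter_conjFn [Finite K] {φ : L → ℂ} (hφ : Cfsg.IsIrrCharacter L φ) (x : K) :
    Cfsg.IsIrrCharacter L (conjFn L φ x) := by
  have h := CharCore.isIrrCharacter_comp_surjective hφ
    (MulAut.conjNormal x : MulAut L).toMonoidHom (MulAut.conjNormal x : MulAut L).surjective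
  convert h using 1
  funext n
  exact congrArg φ (Subtype.ext (MulAut.conjNormal_apply x n).symm)

variable [Fintype K]

theorem restrict_indFun (φ : L → ℂ) :
    (fun n : L => Cfsg.indFun L φ n) = (Nat.card L : ℂ)⁻¹ • ∑ x : K, conjFn L φ x := by
  funext n
  rw [CharInd.indFun_apply, Pi.smul_apply, Finset.sum_apply, smul_eq_mul]
  congr 1
  refine Fintype.sum_equiv (Equiv.inv K) _ _ fun x => ?_
  have hm : x⁻¹ * (n : K) * x ∈ L := by
    have := hL.conj_mem (n : K) n.2 x⁻¹
    rwa [inv_inv] at this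
  rw [CharInd.extendByZero_mem _ hm]
  exact congrArg φ (Subtype.ext (by simp))

variable [Fintype L]

/-- Constituents of a restriction to a normal subgroup are conjugate. -/
theorem exists_conjFn_eq {φ θ : L → ℂ} (hφ : Cfsg.IsIrrCharacter L φ) (hθ : Cfsg.IsIrrCharacter L θ)
    {β : K → ℂ} (hβ : Cfsg.IsIrrCharacter K β) (h1 : Cfsg.classInner (fun n : L => β n) φ ≠ 0)
    (h2 : Cfsg.classInner (fun n : L => β n) θ ≠ 0) : ∃ x : K, conjFn L φ x = θ := by
  by_contra hcon
  push Not at hcon
  have hφc := CharCore.IsIrrCharacter.isCharacter hφ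
  obtain ⟨m, hm⟩ := CharCore.IsCharacter.exists_sum (CharInd.isCharacter_indFun L hφc)
  choose k hk using fun ψ : Cfsg.IrrCharacter K =>
    CharCore.IsCharacter.exists_classInner_irr_eq_natCast
      (CharCore.isCharacter_restrict (CharCore.irr_isCharacter ψ) L) ⟨θ, hθ⟩
  have hk' : ∀ ψ : Cfsg.IrrCharacter K,
      Cfsg.classInner (fun n : L => (ψ : K → ℂ) n) θ = k ψ := hk
  have h0 : ∑ ψ, (m ψ : ℂ) * (k ψ : ℂ) = 0 := by
    have e1 : (fun n : L => Cfsg.indFun L φ n) =
        ∑ ψ, (m ψ : ℂ) • (fun n : L => (ψ : K → ℂ) n) := by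
      funext n; simp [hm, Finset.sum_apply]
    have e2 := congrArg (fun f => Cfsg.classInner f θ) e1
    simp only [CharCore.classInner_sum_left, CharCore.classInner_smul_left, hk'] at e2
    rw [← e2, restrict_indFun, CharCore.classInner_smul_left, CharCore.classInner_sum_left,
      Finset.sum_eq_zero, mul_zero]
    intro x _
    exact CharCore.classInner_irr_of_ne (χ := (⟨_, isIrrCharacter_conjFn L hφ x⟩ : Cfsg.IrrCharacter L))
      (ψ := ⟨θ, hθ⟩) (fun h => hcon x (congrArg Subtype.val h))
  have h0' : ∑ ψ, m ψ * k ψ = 0 := by exact_mod_cast h0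
  have h4 := Finset.sum_eq_zero_iff.mp h0' ⟨β, hβ⟩ (Finset.mem_univ _)
  obtain ⟨j, hj1, hj2⟩ := classInner_indFun_eq_natCast L hφc ⟨β, hβ⟩
  rw [hm, CharCore.classInner_sum_all] at hj1
  rcases mul_eq_zero.mp h4 with h | h
  · exact h1 (by rw [show Cfsg.classInner (fun n : L => β n) φ = (j : ℂ) from hj2, ← hj1, h, Nat.cast_zero])
  · exact h2 (by rw [show Cfsg.classInner (fun n : L => β n) θ = (k ⟨β, hβ⟩ : ℂ) from hk' ⟨β, hβ⟩, h,
      Nat.cast_zero])

/-- An invariant constituent below an abelian quotient: either the restriction is irreducible or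
some nontrivial linear character of the quotient fixes the character. -/
theorem one_or_twist (hcomm : commutator K ≤ L) {φ : L → ℂ} (hφ : Cfsg.IsIrrCharacter L φ)
    {β : K → ℂ} (hβ : Cfsg.IsIrrCharacter K β) {e : ℕ} (hres : ∀ n : L, β n = (e : ℂ) * φ n) :
    e = 1 ∨ ∃ l : K →* ℂˣ, (∀ n : L, l n = 1) ∧ l ≠ 1 ∧ ∀ k, (l k : ℂ) * β k = β k := by
  classical
  by_contra hcon
  push Not at hcon
  obtain ⟨he, htw⟩ := hcon
  apply he
  set f : K → ℂ := fun g => β g * conj (β g) with hf
  have hfc : Cfsg.IsCharacter K f := CharCore.isCharacter_mul (CharCore.IsIrrCharacter.isCharacter hβ)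
    (CharCore.IsCharacter.star (CharCore.IsIrrCharacter.isCharacter hβ))
  have hη := isCharacter_avg L hfc
  have hη1 : avg L f 1 = (e : ℂ) * e := by
    rw [avg_one]
    have : (fun n : L => f n) = fun n => ((e : ℂ) • φ) n * conj (((e : ℂ) • φ) n) := by
      funext n; simp only [hf, hres, Pi.smul_apply, smul_eq_mul]
    rw [this]
    refine Eq.trans (b := Cfsg.classInner ((e : ℂ) • φ) ((e : ℂ) • φ)) ?_ ?_
    · simp only [CharCore.classInner_def, Pi.one_apply, map_one, mul_one]
    · rw [CharCore.classInner_smul_left, CharCore.classInner_smul_right,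
        (CharCore.isIrrCharacter_iff.mp hφ).2, map_natCast, mul_one]
  have hzero : ∀ γ : Cfsg.IrrCharacter K, (γ : K → ℂ) ≠ 1 → Cfsg.classInner (avg L f) γ = 0 := by
    intro γ hγ1
    rcases avg_irr L γ with hav | hav
    swap
    · have hc := classInner_avg L (f := (γ : K → ℂ)) (β := avg L f) (fun n g => avg_mul_left L f n g)
      rw [hav] at hc
      rw [← CharCore.conj_classInner, ← hc]
      simp [CharCore.classInner_def]
    have hγinv : ∀ (n : L) g, (γ : K → ℂ) ((n : K) * g) = (γ : K → ℂ) g := fun n g => by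
      rw [← hav]; exact avg_mul_left L _ n g
    rw [classInner_avg L hγinv]
    have hdeg : (γ : K → ℂ) 1 = 1 := by
      obtain ⟨nn, ρ, hρ, hchar⟩ := γ.2
      have hker : ∀ c ∈ commutator K, ρ c = 1 := fun c hc => by
        have h1 := hγinv ⟨c, hcomm hc⟩ 1
        rw [← hchar, mul_one, Representation.char_one] at h1
        exact (CharCore.character_eq_finrank_iff ρ c).mp h1
      have hs : ∀ g, g ∈ CharInd.scalarSubgroup ρ := by
        intro g
        have hcom : ∀ b, ρ g * ρ b = ρ b * ρ g := fun b => by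
          have h1 := hker _ (Subgroup.commutator_mem_commutator (Subgroup.mem_top g) (Subgroup.mem_top b))
          rw [commutatorElement_def] at h1
          rw [← map_mul, ← map_mul, show g * b = g * b * g⁻¹ * b⁻¹ * (b * g) by group, map_mul, h1,
            one_mul]
        obtain ⟨c, hc⟩ :=
          (Representation.IsIrreducible.algebraMap_intertwiningMap_bijective_of_isAlgClosed
            (ρ := ρ)).surjective (⟨ρ g, hcom⟩ : Representation.IntertwiningMap ρ ρ)
        exact CharInd.mem_scalarSubgroup.mpr ⟨c, fun v =>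
          (LinearMap.congr_fun (congrArg Representation.IntertwiningMap.toLinearMap hc) v).symm⟩
      rw [← hchar, Representation.char_one, CharInd.finrank_eq_one_of_scalar ρ hs, Nat.cast_one]
    obtain ⟨l, hl⟩ := CharCore.IsCharacter.exists_hom_of_degree_one (CharCore.irr_isCharacter γ) hdeg
    have hlN : ∀ n : L, l n = 1 := fun n => by
      have h1 := hγinv n 1
      rw [hl] at h1
      simp only [mul_one, map_one, Units.val_one] at h1
      exact Units.ext (h1.trans Units.val_one.symm)
    have hl1 : l ≠ 1 := fun h => hγ1 (by rw [hl, h]; rfl)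
    obtain ⟨k, hk⟩ := htw l hlN hl1
    have hmul := CharCore.isIrrCharacter_hom_mul l hβ
    refine Eq.trans ?_ (CharCore.classInner_irr_of_ne (χ := (⟨β, hβ⟩ : Cfsg.IrrCharacter K))
      (ψ := ⟨_, hmul⟩) (fun h => hk (congrFun (congrArg Subtype.val h) k).symm))
    simp only [CharCore.classInner_def, hf, hl, map_mul]
    congr 1
    exact Finset.sum_congr rfl fun g _ => by ring
  have hone : avg L f = 1 := by
    rw [CharCore.IsCharacter.eq_sum_classInner hη,
      Finset.sum_eq_single (⟨1, CharCore.isIrrCharacter_one⟩ : Cfsg.IrrCharacter K)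
        (fun γ _ hγ => by rw [hzero γ (fun h => hγ (Subtype.ext h)), zero_smul])
        (fun h => absurd (Finset.mem_univ _) h), classInner_avg L (fun _ _ => rfl)]
    have h1 : Cfsg.classInner f (1 : K → ℂ) = 1 := by
      refine Eq.trans ?_ (CharCore.isIrrCharacter_iff.mp hβ).2
      simp [CharCore.classInner_def, hf]
    rw [h1, one_smul]
  rw [hone, Pi.one_apply] at hη1
  have h5 : e * e = 1 := by exact_mod_cast hη1.symm
  exact Nat.eq_one_of_mul_eq_one_right h5

omit [Fintype L] in
theorem going_down_core {ι : Type*} (α : ι → MulAut K) (hcomm : commutator K ≤ L)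
    (hαL : ∀ i, ∀ n ∈ L, α i n ∈ L)
    (hchief : ∀ M : Subgroup K, L ≤ M → (∀ i, ∀ m ∈ M, α i m ∈ M) → M = L ∨ M = ⊤)
    {ϑ : K → ℂ} (hϑ : Cfsg.IsIrrCharacter K ϑ) (hinv : ∀ i k, ϑ (α i k) = ϑ k) :
    Cfsg.IsIrrCharacter L (fun x : L => ϑ x) ∨
      (∃ (φ : L → ℂ) (e : ℕ), Cfsg.IsIrrCharacter L φ ∧ (fun x : L => ϑ x) = (e : ℂ) • φ ∧
        e ^ 2 = L.index) ∨
      ∃ F : Finset (L → ℂ), (∀ φ ∈ F, Cfsg.IsIrrCharacter L φ) ∧ F.card = L.index ∧
        (fun x : L => ϑ x) = ∑ φ ∈ F, φ := by
  classical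
  have := Fintype.ofFinite L
  have hres := CharCore.isCharacter_restrict (CharCore.IsIrrCharacter.isCharacter hϑ) L
  obtain ⟨φ, hφne⟩ : ∃ φ : Cfsg.IrrCharacter L, Cfsg.classInner (fun n : L => ϑ n) φ ≠ 0 := by
    by_contra hcon
    push Not at hcon
    have h := congrFun (CharCore.IsCharacter.eq_sum_classInner hres) 1
    simp only [hcon, zero_smul, Finset.sum_const_zero, Pi.zero_apply, OneMemClass.coe_one] at h
    exact CharCore.irr_apply_one_ne_zero ⟨ϑ, hϑ⟩ h
  have hφcl := CharCore.irr_isClassFunction φ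
  set T := inertia L (φ : L → ℂ) with hT
  have hLT : L ≤ T := le_inertia L hφcl
  haveI hTn : T.Normal := Subgroup.Normal.of_commutator_le _ (hcomm.trans hLT)
  have hTα : ∀ i, ∀ t ∈ T, α i t ∈ T := by
    intro i t ht
    have hφ' : Cfsg.IsIrrCharacter L
        (fun n : L => (φ : L → ℂ) ⟨α i n, hαL i n n.2⟩) :=
      CharCore.isIrrCharacter_comp_surjective φ.2
        (((α i).toMonoidHom.comp L.subtype).codRestrict L fun n => hαL i n n.2)
        (Finite.surjective_of_injective fun a b h =>
          Subtype.ext ((α i).injective (congrArg Subtype.val h)))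
    have hne' : Cfsg.classInner (fun n : L => ϑ n)
        (fun n : L => (φ : L → ℂ) ⟨α i n, hαL i n n.2⟩) ≠ 0 := by
      have hb : Function.Bijective (fun n : L => (⟨α i n, hαL i n n.2⟩ : L)) :=
        Finite.injective_iff_bijective.mp fun a b h =>
          Subtype.ext ((α i).injective (congrArg Subtype.val h))
      intro h0
      apply hφne
      rw [← h0]
      simp only [CharCore.classInner_def]
      congr 1
      exact (Fintype.sum_equiv (Equiv.ofBijective _ hb) _ _ fun n => by simp [hinv]).symm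
    obtain ⟨x, hx⟩ := exists_conjFn_eq L φ.2 hφ' hϑ hφne hne'
    have ht' : x * t * x⁻¹ ∈ T := hTn.conj_mem t ht x
    have h1 : conjFn L (φ : L → ℂ) (x * t) = conjFn L (φ : L → ℂ) x := by
      rw [show x * t = x * t * x⁻¹ * x by group, ← conjFn_conjFn,
        show conjFn L (φ : L → ℂ) (x * t * x⁻¹) = (φ : L → ℂ) from ht']
    rw [← conjFn_conjFn, hx] at h1
    change conjFn L (φ : L → ℂ) (α i t) = φ
    funext n
    obtain ⟨m, rfl⟩ : ∃ m : L, (⟨α i m, hαL i m m.2⟩ : L) = n :=
      (Finite.injective_iff_bijective.mp fun (a b : L) (h : (⟨α i a, hαL i a a.2⟩ : L) =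
        ⟨α i b, hαL i b b.2⟩) => Subtype.ext ((α i).injective (congrArg Subtype.val h))).2 n
    refine Eq.trans ?_ (congrFun h1 m)
    exact congrArg (φ : L → ℂ) (Subtype.ext (by simp))
  rcases hchief T hLT hTα with hTL | hTtop
  · right; right
    obtain ⟨ψ, hψ, hind, hin⟩ := exists_inertia_induced L φ.2 L
      (fun g => ⟨fun hg n => congrFun (show conjFn L (φ : L → ℂ) g = φ from hTL.ge hg) n,
        fun h => hTL.le (funext h : conjFn L (φ : L → ℂ) g = φ)⟩) le_rfl hϑ hφne
    have hψeq : ψ = (φ : L → ℂ) := by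
      by_contra hne
      apply hφne
      rw [← hin]
      exact CharCore.classInner_irr_of_ne (χ := (⟨ψ, hψ⟩ : Cfsg.IrrCharacter L)) (ψ := φ)
        (fun h => hne (congrArg Subtype.val h))
    haveI := Fintype.ofFinite (K ⧸ L)
    refine ⟨Finset.univ.image fun q : K ⧸ L => conjFn L (φ : L → ℂ) q.out⁻¹, ?_, ?_, ?_⟩
    · intro θ hθ
      obtain ⟨q, -, rfl⟩ := Finset.mem_image.mp hθ
      exact isIrrCharacter_conjFn L φ.2 _
    all_goals
      have hinj : Function.Injective fun q : K ⧸ L => conjFn L (φ : L → ℂ) q.out⁻¹ := by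
        intro q q' h
        have h2 := congrArg (fun θ => conjFn L θ q'.out) h
        simp only [conjFn_conjFn, inv_mul_cancel, conjFn_one] at h2
        rw [← q.out_eq', ← q'.out_eq', QuotientGroup.eq]
        exact hTL.le h2
    · rw [Finset.card_image_of_injective _ hinj, Finset.card_univ, Fintype.card_eq_nat_card,
        Subgroup.index_eq_card]
    · rw [Finset.sum_image fun a _ b _ h => hinj h]
      funext n
      rw [← hind, hψeq, CharInd.indFun_apply_cosets hφcl Quotient.out Quotient.out_eq,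
        Finset.sum_apply]
      refine Finset.sum_congr rfl fun q _ => ?_
      have hm : q.out⁻¹ * (n : K) * q.out ∈ L := by
        have := hL.conj_mem (n : K) n.2 q.out⁻¹
        rwa [inv_inv] at this
      rw [CharInd.extendByZero_mem _ hm]
      exact congrArg (φ : L → ℂ) (Subtype.ext (by simp))
  · obtain ⟨e, he1, he2⟩ := classInner_indFun_eq_natCast L (CharCore.irr_isCharacter φ) ⟨ϑ, hϑ⟩
    have hres' : ∀ n : L, ϑ n = (e : ℂ) * (φ : L → ℂ) n := by
      intro n
      have h := congrFun (restrict_eq_smul L (φ := (φ : L → ℂ))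
        (fun g n => congrFun (show conjFn L (φ : L → ℂ) g = φ from hTtop.ge (Subgroup.mem_top g)) n)
        φ.2 hϑ hφne) n
      rw [show Cfsg.classInner (fun n : L => ϑ n) (φ : L → ℂ) = (e : ℂ) from he2, Pi.smul_apply,
        smul_eq_mul] at h
      exact h
    let W : Subgroup K :=
      { carrier := {k | ∀ l : K →* ℂˣ, (∀ n : L, l n = 1) → (∀ x, (l x : ℂ) * ϑ x = ϑ x) → l k = 1}
        one_mem' := fun l _ _ => map_one l
        mul_mem' := fun {a b} ha hb l h1 h2 => by rw [map_mul, ha l h1 h2, hb l h1 h2, one_mul]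
        inv_mem' := fun {a} ha l h1 h2 => by rw [map_inv, ha l h1 h2, inv_one] }
    have hWα : ∀ i, ∀ w ∈ W, α i w ∈ W := by
      intro i w hw l h1 h2
      exact hw (l.comp (α i).toMonoidHom) (fun n => h1 ⟨α i n, hαL i n n.2⟩)
        (fun x => by
          have := h2 (α i x)
          rw [hinv] at this
          exact this)
    rcases hchief W (fun n hn l h1 _ => h1 ⟨n, hn⟩) hWα with hW | hW
    · right; left
      refine ⟨φ, e, φ.2, funext hres', ?_⟩
      have hvan : ∀ g, g ∉ L → ϑ g = 0 := by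
        intro g hg
        have hgW : g ∉ W := fun h => hg (hW.le h)
        simp only [W, Subgroup.mem_mk, Set.mem_setOf_eq] at hgW
        change ¬ ∀ l : K →* ℂˣ, _ at hgW
        push Not at hgW
        obtain ⟨l, -, hl, hlg⟩ := hgW
        by_contra hb
        exact hlg (Units.ext (mul_right_cancel₀ hb ((hl g).trans (one_mul _).symm)))
      have hnorm := (CharCore.isIrrCharacter_iff.mp hϑ).2
      rw [CharCore.classInner_def, ← Finset.sum_subset (Finset.subset_univ (Finset.univ.filter (· ∈ L)))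
        (fun g _ hg => by rw [hvan g (by simpa using hg), zero_mul]),
        Finset.sum_subtype (p := fun g => g ∈ L) _ (fun g => by simp)] at hnorm
      have hφn := (CharCore.isIrrCharacter_iff.mp φ.2).2
      rw [CharCore.classInner_def, inv_mul_eq_one₀ (natCard_ne L)] at hφn
      have hsum : ∑ n : L, ϑ n * conj (ϑ n) = (e : ℂ) * e * (Nat.card L : ℂ) := by
        rw [hφn, Finset.mul_sum]
        refine Finset.sum_congr rfl fun n _ => ?_
        rw [hres' n, map_mul, map_natCast]; ring
      rw [hsum, ← L.card_mul_index, Nat.cast_mul] at hnorm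
      have h3 : (e : ℂ) * e = (L.index : ℂ) := by
        have hc := natCard_ne L
        have hi : (L.index : ℂ) ≠ 0 := Nat.cast_ne_zero.mpr Subgroup.index_ne_zero_of_finite
        field_simp at hnorm
        linear_combination hnorm
      rw [sq]
      exact_mod_cast h3
    · left
      rcases one_or_twist L hcomm φ.2 hϑ hres' with h | ⟨l, hl1, hl2, hl3⟩
      · rw [show (fun x : L => ϑ x) = (φ : L → ℂ) from
          funext fun n => by rw [hres' n, h, Nat.cast_one, one_mul]]
        exact φ.2
      · exact absurd (MonoidHom.ext fun k => (hW.ge (Subgroup.mem_top k)) l hl1 hl3) hl2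

/-- The going-down theorem for an abelian chief factor. -/
theorem going_down {G : Type*} [Group G] [Fintype G] (K L : Subgroup G) [hK : K.Normal] [hLn : L.Normal]
    (hLK : L ≤ K) (hchief : ∀ M : Subgroup G, M.Normal → L ≤ M → M ≤ K → M = L ∨ M = K)
    (hab : ⁅K, K⁆ ≤ L) (ϑ : K → ℂ) (hϑ : Cfsg.IsIrrCharacter K ϑ)
    (hinv : ∀ (g : G) (n : K), ϑ ⟨g * n * g⁻¹, hK.conj_mem (n : G) n.2 g⟩ = ϑ n) :
    Cfsg.IsIrrCharacter L (fun x : L => ϑ ⟨(x : G), hLK x.2⟩) ∨
      (∃ (φ : L → ℂ) (e : ℕ), Cfsg.IsIrrCharacter L φ ∧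
        (fun x : L => ϑ ⟨(x : G), hLK x.2⟩) = (e : ℂ) • φ ∧ e ^ 2 = L.relIndex K) ∨
      ∃ F : Finset (L → ℂ), (∀ φ ∈ F, Cfsg.IsIrrCharacter L φ) ∧ F.card = L.relIndex K ∧
        (fun x : L => ϑ ⟨(x : G), hLK x.2⟩) = ∑ φ ∈ F, φ := by
  classical
  haveI := Fintype.ofFinite K
  set L' := L.subgroupOf K with hL'
  set e := Subgroup.subgroupOfEquivOfLe hLK with he
  have hcomm : commutator K ≤ L' := by
    intro x hx
    rw [hL', Subgroup.mem_subgroupOf]
    refine hab ?_
    rw [← Subgroup.map_subtype_commutator]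
    exact Subgroup.mem_map_of_mem _ hx
  have hback : ∀ φ : L' → ℂ, Cfsg.IsIrrCharacter L' φ → Cfsg.IsIrrCharacter L (fun x => φ (e.symm x)) :=
    fun φ hφ => CharCore.isIrrCharacter_comp_surjective hφ e.symm.toMonoidHom e.symm.surjective
  have hc := going_down_core L' (fun g : G => (MulAut.conjNormal g : MulAut K)) hcomm
    (fun g n hn => by
      rw [hL', Subgroup.mem_subgroupOf, MulAut.conjNormal_apply]
      exact hLn.conj_mem _ (Subgroup.mem_subgroupOf.mp hn) g)
    (fun M hLM hM => by
      have hMn : (M.map K.subtype).Normal := ⟨by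
        rintro _ ⟨m, hm, rfl⟩ g
        exact ⟨_, hM g m hm, MulAut.conjNormal_apply g m⟩⟩
      have hle : L ≤ M.map K.subtype := fun x hx => ⟨⟨x, hLK hx⟩, hLM hx, rfl⟩
      rcases hchief _ hMn hle (Subgroup.map_subtype_le M) with h | h
      · left
        rw [hL', ← h, Subgroup.subgroupOf, Subgroup.comap_map_eq_self_of_injective K.subtype_injective]
      · right
        rw [← Subgroup.comap_map_eq_self_of_injective K.subtype_injective M, h]
        exact Subgroup.subgroupOf_self K)
    hϑ (fun g k => by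
      rw [← hinv g k]
      exact congrArg ϑ (Subtype.ext (MulAut.conjNormal_apply g k)))
  rcases hc with h | ⟨φ, j, hφ, h1, h2⟩ | ⟨F, hF, h1, h2⟩
  · exact Or.inl (hback _ h)
  · refine Or.inr (Or.inl ⟨fun x => φ (e.symm x), j, hback _ hφ, ?_, h2⟩)
    funext x
    exact congrFun h1 (e.symm x)
  · have hinj : Function.Injective fun (φ : L' → ℂ) (x : L) => φ (e.symm x) := fun a b h => by
      funext y
      have := congrFun h (e y)
      simpa using this
    refine Or.inr (Or.inr ⟨F.image fun φ x => φ (e.symm x), ?_, ?_, ?_⟩)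
    · intro θ hθ
      obtain ⟨φ, hφ, rfl⟩ := Finset.mem_image.mp hθ
      exact hback _ (hF φ hφ)
    · rw [Finset.card_image_of_injective _ hinj, h1]; rfl
    · rw [Finset.sum_image fun a _ b _ h => hinj h]
      funext x
      have := congrFun h2 (e.symm x)
      rw [Finset.sum_apply] at this ⊢
      exact this

end Cfsg.Agent.CharDeep.Ext
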