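import Cfsg.Agent.CharDeep.Ext.Clifford

/-! The Clifford correspondence for the inertia group. -/

namespace Cfsg.Agent.CharDeep.Ext

open scoped ComplexConjugate

variable {G : Type*} [Group G] [Fintype G]

/-- If `‖∑ aᵢ fᵢ‖² = ∑ aᵢ²` for nonzero characters `fᵢ`, those with `aᵢ ≠ 0` are irreducible and
pairwise orthogonal. -/
theorem irr_of_norm_sum {ι : Type*} [Fintype ι] (f : ι → G → ℂ)
    (hf : ∀ i, Cfsg.IsCharacter G (f i)) (h1 : ∀ i, f i 1 ≠ 0) (a : ι → ℕ)
    (hn : Cfsg.classInner (∑ i, (a i : ℂ) • f i) (∑ i, (a i : ℂ) • f i) = ((∑ i, a i * a i : ℕ) : ℂ)) :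
    ∀ i, a i ≠ 0 → Cfsg.IsIrrCharacter G (f i) ∧
      Cfsg.classInner (∑ j, (a j : ℂ) • f j) (f i) = a i := by
  classical
  choose M hM using fun i j => CharCore.IsCharacter.exists_classInner_eq_natCast (hf i) (hf j)
  have hdiag : ∀ i, 1 ≤ M i i := by
    intro i
    rcases Nat.eq_zero_or_pos (M i i) with h | h
    swap
    · exact h
    exfalso
    have h0 := hM i i
    obtain ⟨l, hl⟩ := CharCore.IsCharacter.exists_sum (hf i)
    rw [h, Nat.cast_zero, hl, CharCore.classInner_sum_sum] at h0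
    simp only [map_natCast] at h0
    have h0' : ∑ ψ, l ψ * l ψ = 0 := by exact_mod_cast h0
    have hl0 : ∀ ψ, l ψ = 0 := fun ψ =>
      mul_self_eq_zero.mp (Finset.sum_eq_zero_iff.mp h0' ψ (Finset.mem_univ _))
    apply h1 i
    rw [hl]
    simp [hl0]
  have hs : ∀ i j, M j i = M i j := fun i j => Nat.cast_injective (R := ℂ) (by
    rw [← hM, ← hM, ← CharCore.conj_classInner, hM, map_natCast])
  have hsum : ∑ i, ∑ j, a i * a j * M i j = ∑ i, ∑ j, (if i = j then a i * a i else 0) := by
    simp only [Finset.sum_ite_eq, Finset.mem_univ, if_true]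
    apply Nat.cast_injective (R := ℂ)
    rw [← hn]
    simp only [CharCore.classInner_sum_left, CharCore.classInner_sum_right,
      CharCore.classInner_smul_left, CharCore.classInner_smul_right, hM, map_natCast]
    push_cast
    exact Finset.sum_congr rfl fun i _ => by
      rw [Finset.mul_sum]
      exact Finset.sum_congr rfl fun j _ => by rw [hs i j]; ring
  have hle : ∀ i j, (if i = j then a i * a i else 0) ≤ a i * a j * M i j := by
    intro i j
    split_ifs with h
    · subst h; exact Nat.le_mul_of_pos_right _ (hdiag i)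
    · exact Nat.zero_le _
  have hpt : ∀ i j, (if i = j then a i * a i else 0) = a i * a j * M i j := by
    intro i j
    have h2 := (Finset.sum_eq_sum_iff_of_le fun b _ => Finset.sum_le_sum fun b' _ => hle b b').mp
      hsum.symm i (Finset.mem_univ _)
    exact (Finset.sum_eq_sum_iff_of_le fun b' _ => hle i b').mp h2 j (Finset.mem_univ _)
  intro i hi
  have hM1 : M i i = 1 := by
    have h := hpt i i
    rw [if_pos rfl] at h
    exact Nat.eq_of_mul_eq_mul_left (Nat.pos_of_ne_zero (mul_ne_zero hi hi))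
      (by rw [mul_one]; exact h.symm)
  refine ⟨CharCore.isIrrCharacter_iff.mpr ⟨hf i, by rw [hM, hM1, Nat.cast_one]⟩, ?_⟩
  rw [CharCore.classInner_sum_left, Finset.sum_eq_single i]
  · rw [CharCore.classInner_smul_left, hM, hM1, Nat.cast_one, mul_one]
  · intro j _ hne
    rw [CharCore.classInner_smul_left, hM]
    have h := hpt j i
    rw [if_neg hne] at h
    rcases mul_eq_zero.mp h.symm with h' | h'
    · rw [(mul_eq_zero.mp h').resolve_right hi, Nat.cast_zero, zero_mul]
    · rw [h', Nat.cast_zero, mul_zero]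
  · intro h; exact absurd (Finset.mem_univ _) h

/-- Induction in stages through an intermediate subgroup. -/
theorem indFun_of_le {H T : Subgroup G} [Fintype T] (hHT : H ≤ T) (θ : H → ℂ) :
    Cfsg.indFun T (Cfsg.indFun (H.subgroupOf T) fun x => θ (Subgroup.subgroupOfEquivOfLe hHT x)) =
      Cfsg.indFun H θ := by
  have hcard : Nat.card (H.subgroupOf T) = Nat.card H :=
    Nat.card_congr (Subgroup.subgroupOfEquivOfLe hHT).toEquiv
  have key : ∀ y : G, Cfsg.extendByZero T (Cfsg.indFun (H.subgroupOf T)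
      fun x => θ (Subgroup.subgroupOfEquivOfLe hHT x)) y =
      (Nat.card H : ℂ)⁻¹ * ∑ t : T, Cfsg.extendByZero H θ ((t : G)⁻¹ * y * t) := by
    intro y
    by_cases hy : y ∈ T
    · rw [CharInd.extendByZero_mem _ hy, CharInd.indFun_apply, hcard]
      congr 1
      refine Finset.sum_congr rfl fun t _ => ?_
      by_cases ht : (t : G)⁻¹ * y * t ∈ H
      · rw [CharInd.extendByZero_mem _ ht,
          CharInd.extendByZero_mem (H := H.subgroupOf T) _ (g := t⁻¹ * ⟨y, hy⟩ * t) ht]
        rfl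
      · rw [CharInd.extendByZero_notMem _ ht,
          CharInd.extendByZero_notMem (H := H.subgroupOf T) _ (g := t⁻¹ * ⟨y, hy⟩ * t) ht]
    · rw [CharInd.extendByZero_notMem _ hy, Finset.sum_eq_zero, mul_zero]
      intro t _
      refine CharInd.extendByZero_notMem _ fun hm => hy ?_
      have h := T.mul_mem (T.mul_mem t.2 (hHT hm)) (T.inv_mem t.2)
      simpa [mul_assoc] using h
  funext g
  simp only [CharInd.indFun_apply]
  rw [Finset.sum_congr rfl fun x _ => key (x⁻¹ * g * x), ← Finset.mul_sum, Finset.sum_comm]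
  have inner : ∀ t : T, ∑ x : G, Cfsg.extendByZero H θ ((t : G)⁻¹ * (x⁻¹ * g * x) * t) =
      ∑ x : G, Cfsg.extendByZero H θ (x⁻¹ * g * x) := fun t =>
    Fintype.sum_equiv (Equiv.mulRight (t : G)) _ _ fun x => by
      simp only [Equiv.coe_mulRight, mul_inv_rev, mul_assoc]
  rw [Finset.sum_congr rfl fun t _ => inner t, Finset.sum_const, Finset.card_univ, nsmul_eq_mul,
    Fintype.card_eq_nat_card]
  field_simp [CharInd.natCard_subgroup_ne_zero T]

/-- The Clifford correspondence. -/
theorem exists_inertia_induced (H : Subgroup G) [hN : H.Normal] [Fintype H] {ϑ : H → ℂ}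
    (hϑ : Cfsg.IsIrrCharacter H ϑ) (T : Subgroup G) [Fintype T]
    (hT : ∀ g : G, g ∈ T ↔ ∀ n : H, ϑ ⟨g * n * g⁻¹, hN.conj_mem (n : G) n.2 g⟩ = ϑ n) (hHT : H ≤ T)
    {χ : G → ℂ} (hχ : Cfsg.IsIrrCharacter G χ)
    (hcon : Cfsg.classInner (fun n : H => χ n) ϑ ≠ 0) :
    ∃ ψ : T → ℂ, Cfsg.IsIrrCharacter T ψ ∧ Cfsg.indFun T ψ = χ ∧
      Cfsg.classInner (fun n : H => ψ ⟨(n : G), hHT n.2⟩) ϑ =
        Cfsg.classInner (fun n : H => χ n) ϑ := by
  classical
  set H' := H.subgroupOf T with hH'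
  set e := Subgroup.subgroupOfEquivOfLe hHT with he
  have hϑ' : Cfsg.IsIrrCharacter H' (fun x => ϑ (e x)) :=
    CharCore.isIrrCharacter_comp_surjective hϑ e.toMonoidHom e.surjective
  haveI : H'.Normal := Subgroup.normal_subgroupOf
  have hinv : Inv H' (fun x => ϑ (e x)) := fun t n => (hT t).mp t.2 (e n)
  have hIc := CharInd.isCharacter_indFun H' (CharCore.IsIrrCharacter.isCharacter hϑ')
  obtain ⟨a, ha⟩ := CharCore.IsCharacter.exists_sum hIc
  have hindex : ((∑ ψ, a ψ * a ψ : ℕ) : ℂ) = (H'.index : ℂ) := by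
    have h := classInner_indFun_self H' hinv hϑ'
    rw [ha, CharCore.classInner_sum_sum] at h
    simp only [map_natCast] at h
    push_cast
    exact h
  have hind : Cfsg.indFun H ϑ = ∑ ψ : Cfsg.IrrCharacter T, (a ψ : ℂ) • Cfsg.indFun T (ψ : T → ℂ) := by
    rw [← indFun_of_le hHT ϑ]
    rw [show Cfsg.indFun (H.subgroupOf T) (fun x => ϑ (Subgroup.subgroupOfEquivOfLe hHT x)) = _ from ha,
      CharInd.indFun_sum]
    exact Finset.sum_congr rfl fun ψ _ => CharInd.indFun_smul T _ _
  have hnorm : Cfsg.classInner (Cfsg.indFun H ϑ) (Cfsg.indFun H ϑ) = (H'.index : ℂ) := by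
    rw [CharInd.classInner_indFun_left H ϑ (CharInd.isClassFunction_indFun H ϑ)]
    have hconj : ∀ x : G, Cfsg.IsIrrCharacter H
        (fun n : H => ϑ ⟨x * n * x⁻¹, hN.conj_mem (n : G) n.2 x⟩) := by
      intro x
      have h := CharCore.isIrrCharacter_comp_surjective hϑ
        (MulAut.conjNormal x : MulAut H).toMonoidHom (MulAut.conjNormal x : MulAut H).surjective
      convert h using 1
      funext n
      exact congrArg ϑ (Subtype.ext (MulAut.conjNormal_apply x n).symm)
    have hv : (fun n : H => Cfsg.indFun H ϑ n) = (Nat.card H : ℂ)⁻¹ •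
        ∑ x : G, fun n : H => ϑ ⟨x * n * x⁻¹, hN.conj_mem (n : G) n.2 x⟩ := by
      funext n
      rw [CharInd.indFun_apply, Pi.smul_apply, Finset.sum_apply, smul_eq_mul]
      congr 1
      refine Fintype.sum_equiv (Equiv.inv G) _ _ fun x => ?_
      have hm : x⁻¹ * (n : G) * x ∈ H := by
        have := hN.conj_mem (n : G) n.2 x⁻¹
        rwa [inv_inv] at this
      rw [CharInd.extendByZero_mem _ hm]
      exact congrArg ϑ (Subtype.ext (by simp))
    rw [hv, CharCore.classInner_smul_right, CharCore.classInner_sum_right, map_inv₀, map_natCast]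
    have hval : ∀ x : G, Cfsg.classInner ϑ (fun n : H => ϑ ⟨x * n * x⁻¹, hN.conj_mem (n : G) n.2 x⟩) =
        if x ∈ T then 1 else 0 := by
      intro x
      split_ifs with hx
      · rw [show (fun n : H => ϑ ⟨x * n * x⁻¹, hN.conj_mem (n : G) n.2 x⟩) = ϑ from
          funext ((hT x).mp hx)]
        exact (CharCore.isIrrCharacter_iff.mp hϑ).2
      · exact CharCore.classInner_irr_of_ne (χ := (⟨ϑ, hϑ⟩ : Cfsg.IrrCharacter H))
          (ψ := ⟨_, hconj x⟩)
          (fun h => hx ((hT x).mpr fun n => (congrFun (congrArg Subtype.val h) n).symm))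
    rw [Finset.sum_congr rfl fun x _ => hval x, Finset.sum_boole, ← Fintype.card_subtype,
      Fintype.card_eq_nat_card]
    have hc : Nat.card T = Nat.card H * H'.index := by
      rw [← H'.card_mul_index, Nat.card_congr e.toEquiv]
    rw [hc, Nat.cast_mul, inv_mul_cancel_left₀ (natCard_ne H)]
  have hmain := irr_of_norm_sum (fun ψ : Cfsg.IrrCharacter T => Cfsg.indFun T (ψ : T → ℂ))
    (fun ψ => CharInd.isCharacter_indFun T (CharCore.irr_isCharacter ψ))
    (fun ψ => by
      rw [CharInd.indFun_apply_one]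
      exact mul_ne_zero (Nat.cast_ne_zero.mpr Subgroup.index_ne_zero_of_finite)
        (CharCore.irr_apply_one_ne_zero ψ))
    a (by rw [← hind, hnorm, hindex])
  have hne : Cfsg.classInner (Cfsg.indFun H ϑ) χ ≠ 0 := by
    intro h
    apply hcon
    rw [← CharInd.classInner_indFun_right H ϑ
      (CharCore.IsCharacter.isClassFunction (CharCore.IsIrrCharacter.isCharacter hχ)),
      ← CharCore.conj_classInner, h, map_zero]
  rw [hind, CharCore.classInner_sum_left] at hne
  obtain ⟨ψ, -, hψ⟩ := Finset.exists_ne_zero_of_sum_ne_zero hne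
  rw [CharCore.classInner_smul_left] at hψ
  obtain ⟨hψa, hψi⟩ := mul_ne_zero_iff.mp hψ
  have hψa' : a ψ ≠ 0 := fun h => hψa (by rw [h, Nat.cast_zero])
  obtain ⟨hirr, hcoef⟩ := hmain ψ hψa'
  have heq : Cfsg.indFun T (ψ : T → ℂ) = χ := by
    by_contra hcne
    exact hψi (CharCore.classInner_irr_of_ne (χ := (⟨_, hirr⟩ : Cfsg.IrrCharacter G))
      (ψ := ⟨χ, hχ⟩) (fun h => hcne (congrArg Subtype.val h)))
  refine ⟨ψ, ψ.2, heq, ?_⟩
  have h2 : Cfsg.classInner (fun x : H' => (ψ : T → ℂ) x) (fun x => ϑ (e x)) = a ψ := by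
    rw [← CharInd.classInner_indFun_right H' _ (CharCore.irr_isClassFunction ψ), ha,
      ← CharCore.conj_classInner, CharCore.classInner_sum_all, map_natCast]
  have h3 : Cfsg.classInner (fun n : H => (ψ : T → ℂ) ⟨(n : G), hHT n.2⟩) ϑ = a ψ := by
    rw [← h2]
    simp only [CharCore.classInner_def]
    rw [Nat.card_congr e.toEquiv]
    congr 1
    exact (Fintype.sum_equiv e.toEquiv _ _ fun x => rfl).symm
  rw [h3, ← CharInd.classInner_indFun_right H ϑ
      (CharCore.IsCharacter.isClassFunction (CharCore.IsIrrCharacter.isCharacter hχ)),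
      ← CharCore.conj_classInner, hind]
  rw [show Cfsg.classInner (∑ ψ' : Cfsg.IrrCharacter T, (a ψ' : ℂ) • Cfsg.indFun T (ψ' : T → ℂ)) χ =
    (a ψ : ℂ) by rw [← heq]; exact hcoef, map_natCast]

end Cfsg.Agent.CharDeep.Ext
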