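import Cfsg.Agent.CharDeep.Ext.Main

/-! Function-level forms of the extension theorems. -/

namespace Cfsg.Agent.CharDeep.Ext

variable {G : Type*} [Group G]

theorem exists_hom_eq {μ : G → ℂ} (h : Cfsg.IsCharacter G μ ∧ μ 1 = 1) :
    ∃ m : G →* ℂˣ, μ = fun g => (m g : ℂ) :=
  CharCore.IsCharacter.exists_hom_of_degree_one h.1 h.2

theorem isCharacter_hom (m : G →* ℂˣ) :
    Cfsg.IsCharacter G (fun g => (m g : ℂ)) ∧ (m 1 : ℂ) = 1 :=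
  ⟨CharCore.IsIrrCharacter.isCharacter (CharCore.isIrrCharacter_hom m), by simp⟩

variable [Finite G] (N : Subgroup G) [N.Normal]

theorem restrict_detChar {η : G → ℂ} (hη : Cfsg.IsCharacter G η) {ϑ : N → ℂ}
    (hext : ∀ n : N, η n = ϑ n) (n : N) : (detHom η n : ℂ) = Cfsg.detChar ϑ n := by
  rw [← detHom_apply, detHom_restrict N hη hext]
  rfl

/-- An invariant character of coprime degree extends iff its determinant extends. -/
theorem ext_iff_det {ϑ : N → ℂ} (hϑ : Cfsg.IsIrrCharacter N ϑ) (hinv : Inv N ϑ) {d : ℕ}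
    (hd : ϑ 1 = d) (hcop : Nat.Coprime N.index d) :
    (∃ χ : G → ℂ, Cfsg.IsIrrCharacter G χ ∧ (∀ n : N, χ n = ϑ n)) ↔
      ∃ μ : G → ℂ, Cfsg.IsCharacter G μ ∧ μ 1 = 1 ∧ ∀ n : N, μ n = Cfsg.detChar ϑ n := by
  constructor
  · rintro ⟨η, hη, hext⟩
    exact ⟨_, (isCharacter_hom (detHom η)).1, by simp, fun n =>
      restrict_detChar N (CharCore.IsIrrCharacter.isCharacter hη) hext n⟩
  · rintro ⟨μ, hμc, hμ1, hμ⟩
    obtain ⟨m, rfl⟩ := exists_hom_eq ⟨hμc, hμ1⟩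
    obtain ⟨χ, hχ⟩ := exists_ext hϑ hd hcop (μ := m)
      (fun n => Units.ext ((hμ n).trans (detHom_apply ϑ n).symm)) hinv
    exact ⟨χ, hχ.1, hχ.2.1⟩

theorem existsUnique_detChar {ϑ : N → ℂ} (hϑ : Cfsg.IsIrrCharacter N ϑ) {d : ℕ} (hd : ϑ 1 = d)
    (hcop : Nat.Coprime N.index d)
    (hext : ∃ η : G → ℂ, Cfsg.IsIrrCharacter G η ∧ (∀ n : N, η n = ϑ n)) (μ : G → ℂ)
    (hμ : Cfsg.IsCharacter G μ ∧ μ 1 = 1) (hμN : ∀ n : N, μ n = Cfsg.detChar ϑ n) :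
    ∃! χ : G → ℂ, Cfsg.IsIrrCharacter G χ ∧ (∀ n : N, χ n = ϑ n) ∧ Cfsg.detChar χ = μ := by
  obtain ⟨m, rfl⟩ := exists_hom_eq hμ
  obtain ⟨η, hη, hext⟩ := hext
  obtain ⟨χ, hχ, hu⟩ := existsUnique_det N hϑ hd hcop hη hext m
    (fun n => Units.ext ((hμN n).trans (detHom_apply ϑ n).symm))
  refine ⟨χ, ⟨hχ.1, hχ.2.1, by rw [← detHom_coe, hχ.2.2]⟩, fun χ' h => hu χ' ⟨h.1, h.2.1, ?_⟩⟩
  ext g
  rw [detHom_apply, h.2.2]

theorem exists_extend_linear {lam : N → ℂ} (hlam : Cfsg.IsCharacter N lam ∧ lam 1 = 1)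
    (hinv : Inv N lam) (hcop : Nat.Coprime N.index (orderOf lam)) :
    ∃ μ : G → ℂ, (Cfsg.IsCharacter G μ ∧ μ 1 = 1 ∧ (∀ n : N, μ n = lam n) ∧
      orderOf μ = orderOf lam) ∧ ∀ μ' : G → ℂ, Cfsg.IsCharacter G μ' ∧ μ' 1 = 1 →
        (∀ n : N, μ' n = lam n) → Nat.Coprime N.index (orderOf μ') → μ' = μ := by
  obtain ⟨l, rfl⟩ := exists_hom_eq hlam
  rw [orderOf_homToFun] at hcop ⊢
  obtain ⟨m, ⟨hm, ho⟩, hu⟩ := exists_unique_extend_coprime N l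
    (fun g n => Units.ext (hinv g n)) hcop
  refine ⟨fun g => (m g : ℂ), ⟨(isCharacter_hom m).1, by simp, fun n => congrArg Units.val (hm n),
    by rw [orderOf_homToFun, ho]⟩, fun μ' h1 h2 h3 => ?_⟩
  obtain ⟨m', rfl⟩ := exists_hom_eq h1
  rw [orderOf_homToFun] at h3
  rw [hu m' (fun n => Units.ext (h2 n)) h3]

theorem exists_ext_detOrder {ϑ : N → ℂ} (hϑ : Cfsg.IsIrrCharacter N ϑ) (hinv : Inv N ϑ) {d : ℕ}
    (hd : ϑ 1 = d) (hcop : Nat.Coprime N.index (Cfsg.detOrder ϑ * d)) :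
    ∃ χ : G → ℂ, (Cfsg.IsIrrCharacter G χ ∧ (∀ n : N, χ n = ϑ n) ∧
      Cfsg.detOrder χ = Cfsg.detOrder ϑ) ∧ ∀ χ' : G → ℂ, Cfsg.IsIrrCharacter G χ' →
        (∀ n : N, χ' n = ϑ n) → Nat.Coprime N.index (Cfsg.detOrder χ') → χ' = χ := by
  rw [detOrder_eq ϑ] at hcop ⊢
  have hdinv : ∀ (g : G) (n : N),
      detHom ϑ ⟨g * n * g⁻¹, Subgroup.Normal.conj_mem inferInstance (n : G) n.2 g⟩ = detHom ϑ n := by
    intro g n
    have h := detHom_comp (CharCore.IsIrrCharacter.isCharacter hϑ)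
      ((MulAut.conjNormal g : MulAut N).toMonoidHom)
    have e : (fun k : N => ϑ ((MulAut.conjNormal g : MulAut N).toMonoidHom k)) = ϑ := funext fun k => by
      rw [← hinv g k]
      exact congrArg ϑ (Subtype.ext (MulAut.conjNormal_apply g k))
    rw [e] at h
    conv_rhs => rw [h]
    exact congrArg (detHom ϑ) (Subtype.ext (MulAut.conjNormal_apply g n).symm)
  obtain ⟨m, ⟨hm, ho⟩, hu⟩ := exists_unique_extend_coprime N (detHom ϑ) hdinv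
    (hcop.coprime_dvd_right (dvd_mul_right _ _))
  have hcd : Nat.Coprime N.index d := hcop.coprime_dvd_right (dvd_mul_left _ _)
  obtain ⟨χ, hχ⟩ := exists_ext hϑ hd hcd (μ := m) hm hinv
  refine ⟨χ, ⟨hχ.1, hχ.2.1, by rw [detOrder_eq, hχ.2.2, ho]⟩, fun χ' h1 h2 h3 => ?_⟩
  rw [detOrder_eq] at h3
  have hdet : detHom χ' = m := hu _ (fun n => by
    rw [detHom_restrict N (CharCore.IsIrrCharacter.isCharacter h1) h2]; rfl) h3
  exact (existsUnique_det N hϑ hd hcd hχ.1 hχ.2.1 m hm).unique ⟨h1, h2, hdet⟩ hχ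

theorem exists_extend_sylow {lam : N → ℂ} (hlam : Cfsg.IsCharacter N lam ∧ lam 1 = 1)
    (hinv : Inv N lam) (hsyl : ∀ p : ℕ, p.Prime → p ∣ orderOf lam →
      ∃ (H : Subgroup G) (hNH : N ≤ H) (ν : H → ℂ), Nat.Coprime H.index p ∧
        Cfsg.IsCharacter H ν ∧ ν 1 = 1 ∧ ∀ n : N, ν ⟨(n : G), hNH n.2⟩ = lam n) :
    ∃ μ : G → ℂ, Cfsg.IsCharacter G μ ∧ μ 1 = 1 ∧ ∀ n : N, μ n = lam n := by
  obtain ⟨l, rfl⟩ := exists_hom_eq hlam
  have hfin : ∀ n, (l ^ Nat.card N) n = 1 := fun n => by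
    rw [MonoidHom.pow_apply, ← map_pow, pow_card_eq_one', map_one]
  have hop : 0 < orderOf l := by
    rw [orderOf_pos_iff, isOfFinOrder_iff_pow_eq_one]
    exact ⟨Nat.card N, Nat.card_pos, MonoidHom.ext hfin⟩
  obtain ⟨μ, hμ⟩ := exists_extend_of_local N l hop (fun p hp hpd => by
    rw [← orderOf_homToFun] at hpd
    obtain ⟨H, hNH, ν, hc, hν, hν1, hνl⟩ := hsyl p hp hpd
    obtain ⟨ν, rfl⟩ := exists_hom_eq ⟨hν, hν1⟩
    refine ⟨H, hNH, ν, (hp.coprime_iff_not_dvd).mp hc.symm, fun g n => Units.ext ?_⟩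
    exact (hνl ⟨g * n * g⁻¹, Subgroup.Normal.conj_mem inferInstance (n : G) n.2 g⟩).trans (hinv g n))
  exact ⟨fun g => (μ g : ℂ), (isCharacter_hom μ).1, by simp, fun n => congrArg Units.val (hμ n)⟩

end Cfsg.Agent.CharDeep.Ext
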