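import Cfsg.Agent.Lib.CharCore.Complete
import Cfsg.Agent.Lib.CharCore.Linear
import Cfsg.Agent.Lib.CharCore.Virtual
import Cfsg.Agent.Lib.CharInd.Char
import Cfsg.Agent.Lib.BlocksCore.Omega

/-! Averaging over a normal subgroup, invariant Clifford theory, Gallagher correspondence. -/

namespace Cfsg.Agent.CharDeep.Ext

open scoped ComplexConjugate

variable {G : Type*} [Group G] [Fintype G] (N : Subgroup G) [N.Normal] [Fintype N]

/-- The average of a function over the cosets of a normal subgroup. -/
noncomputable def avg (f : G → ℂ) : G → ℂ :=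
  fun g => (Nat.card N : ℂ)⁻¹ * ∑ n : N, f ((n : G) * g)

omit [Fintype G] [N.Normal] in
theorem avg_apply (f : G → ℂ) (g : G) :
    avg N f g = (Nat.card N : ℂ)⁻¹ * ∑ n : N, f ((n : G) * g) := rfl

theorem natCard_ne : (Nat.card N : ℂ) ≠ 0 := Nat.cast_ne_zero.mpr Nat.card_pos.ne'

omit [Fintype G] [N.Normal] in
theorem avg_mul_left (f : G → ℂ) (m : N) (g : G) : avg N f ((m : G) * g) = avg N f g := by
  rw [avg_apply, avg_apply]
  congr 1
  exact Fintype.sum_equiv (Equiv.mulRight m) _ _ fun n => by simp [mul_assoc]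

theorem avg_eq_self {f : G → ℂ} (h : ∀ (n : N) g, f ((n : G) * g) = f g) : avg N f = f := by
  funext g
  rw [avg_apply, Finset.sum_congr rfl fun n _ => h n g, Finset.sum_const, Finset.card_univ,
    nsmul_eq_mul, Fintype.card_eq_nat_card, inv_mul_cancel_left₀ (natCard_ne N)]

theorem isClassFunction_avg {f : G → ℂ} (hf : Cfsg.IsClassFunction G f) :
    Cfsg.IsClassFunction G (avg N f) := by
  intro g h
  rw [avg_apply, avg_apply]
  congr 1
  refine (Fintype.sum_equiv (MulAut.conjNormal h : MulAut N).toEquiv _ _ fun n => ?_).symm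
  change f ((n : G) * g) = f (((MulAut.conjNormal h n : N) : G) * (h * g * h⁻¹))
  rw [MulAut.conjNormal_apply, show h * (n : G) * h⁻¹ * (h * g * h⁻¹) = h * ((n : G) * g) * h⁻¹ by group,
    hf]

/-- The average of an irreducible character is itself or zero. -/
theorem avg_irr (θ : Cfsg.IrrCharacter G) : avg N (θ : G → ℂ) = θ ∨ avg N (θ : G → ℂ) = 0 := by
  classical
  obtain ⟨f, n, ρ, hρ, rfl⟩ := θ
  set a : G → ℂ := fun g => if g ∈ N then 1 else 0 with ha
  have hac : Cfsg.IsClassFunction G a := by
    intro g h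
    simp only [ha]
    by_cases hg : g ∈ N
    · rw [if_pos hg, if_pos (Subgroup.Normal.conj_mem inferInstance g hg h)]
    · rw [if_neg hg, if_neg]
      intro h'
      apply hg
      simpa [mul_assoc] using Subgroup.Normal.conj_mem (inferInstanceAs N.Normal) _ h' h⁻¹
  set c := BlocksCore.omega ρ.character a with hc
  have hsum : ∑ m : N, ρ (m : G) = c • (1 : Module.End ℂ (Fin n → ℂ)) := by
    rw [hc, ← BlocksCore.sum_smul_eq_omega_smul ρ hac]
    simp only [ha, ite_smul, one_smul, zero_smul]
    rw [← Finset.sum_filter, Finset.sum_subtype (p := fun g => g ∈ N) _ (fun g => by simp)]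
  by_cases hc0 : c = 0
  · right
    funext g
    rw [avg_apply]
    have : ∑ m : N, ρ.character ((m : G) * g) = 0 := by
      simp only [Representation.character, map_mul, ← map_sum, ← Finset.sum_mul, hsum, hc0, zero_smul,
        zero_mul, map_zero]
    rw [this, mul_zero]; rfl
  · left
    refine avg_eq_self N fun m g => ?_
    have h1 : (∑ k : N, ρ (k : G)) * ρ (m : G) = ∑ k : N, ρ (k : G) := by
      rw [Finset.sum_mul]
      exact Fintype.sum_equiv (Equiv.mulRight m) _ _ fun k => by simp [map_mul]
    rw [hsum, smul_mul_assoc, one_mul] at h1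
    have h2 : ρ (m : G) = 1 := smul_right_injective _ hc0 h1
    simp [Representation.character, map_mul, h2]

omit [Fintype G] [N.Normal] in
theorem avg_sum {ι : Type*} (s : Finset ι) (f : ι → G → ℂ) :
    avg N (∑ i ∈ s, f i) = ∑ i ∈ s, avg N (f i) := by
  funext g
  simp only [avg_apply, Finset.sum_apply]
  rw [Finset.sum_comm, Finset.mul_sum]

omit [Fintype G] [N.Normal] in
theorem avg_smul (c : ℂ) (f : G → ℂ) : avg N (c • f) = c • avg N f := by
  funext g
  simp only [avg_apply, Pi.smul_apply, smul_eq_mul, ← Finset.mul_sum]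
  ring

theorem isCharacter_avg {f : G → ℂ} (hf : Cfsg.IsCharacter G f) :
    Cfsg.IsCharacter G (avg N f) := by
  obtain ⟨m, rfl⟩ := CharCore.IsCharacter.exists_sum hf
  rw [avg_sum]
  refine CharCore.isCharacter_sum _ _ fun ψ _ => ?_
  rw [avg_smul]
  rcases avg_irr N ψ with h | h <;> rw [h]
  · exact CharCore.isCharacter_natCast_smul (CharCore.irr_isCharacter ψ) _
  · rw [smul_zero]; exact CharCore.isCharacter_zero

omit [Fintype G] [N.Normal] in
theorem avg_one (f : G → ℂ) :
    avg N f 1 = Cfsg.classInner (fun n : N => f n) (1 : N → ℂ) := by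
  simp [avg_apply, CharCore.classInner_def]

theorem classInner_avg {f β : G → ℂ} (hβ : ∀ (n : N) g, β ((n : G) * g) = β g) :
    Cfsg.classInner (avg N f) β = Cfsg.classInner f β := by
  simp only [CharCore.classInner_def, avg_apply]
  congr 1
  rw [Finset.sum_congr rfl fun g _ => by rw [mul_assoc, Finset.sum_mul], ← Finset.mul_sum,
    Finset.sum_comm]
  have h : ∀ n : N, ∑ g : G, f ((n : G) * g) * conj (β g) = ∑ g : G, f g * conj (β g) := fun n =>
    Fintype.sum_equiv (Equiv.mulLeft (n : G)) _ _ fun g => by simp [hβ n g]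
  rw [Finset.sum_congr rfl fun n _ => h n, Finset.sum_const, Finset.card_univ, nsmul_eq_mul,
    Fintype.card_eq_nat_card, inv_mul_cancel_left₀ (natCard_ne N)]

section Extendible

variable {N}
variable {χ : G → ℂ} (hχ : Cfsg.IsIrrCharacter G χ)
  (hN : Cfsg.IsIrrCharacter N (fun n : N => χ n))

include hχ hN

theorem avg_mul_conj_self : avg N (fun g => χ g * conj (χ g)) = 1 := by
  set f : G → ℂ := fun g => χ g * conj (χ g) with hf
  have hfc : Cfsg.IsCharacter G f :=
    CharCore.isCharacter_mul (CharCore.IsIrrCharacter.isCharacter hχ)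
      (CharCore.IsCharacter.star (CharCore.IsIrrCharacter.isCharacter hχ))
  have h1 : avg N f 1 = 1 := by
    rw [avg_one]
    refine Eq.trans ?_ (CharCore.isIrrCharacter_iff.mp hN).2
    simp [CharCore.classInner_def, hf]
  obtain ⟨l, hl⟩ := CharCore.IsCharacter.exists_hom_of_degree_one (isCharacter_avg N hfc) h1
  have h2 : Cfsg.classInner (avg N f) (1 : G → ℂ) = 1 := by
    rw [classInner_avg N fun _ _ => rfl]
    refine Eq.trans ?_ (CharCore.isIrrCharacter_iff.mp hχ).2
    simp [CharCore.classInner_def, hf]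
  rw [hl] at h2 ⊢
  by_contra hne
  have h3 := CharCore.classInner_irr_of_ne
    (χ := (⟨_, CharCore.isIrrCharacter_hom l⟩ : Cfsg.IrrCharacter G))
    (ψ := ⟨1, CharCore.isIrrCharacter_one⟩) (fun h => hne (congrArg Subtype.val h))
  rw [h3] at h2
  exact zero_ne_one h2

/-- Multiplication by an extendible character preserves irreducibility. -/
theorem isIrrCharacter_mul {β : G → ℂ} (hβ : Cfsg.IsIrrCharacter G β)
    (hinv : ∀ (n : N) g, β ((n : G) * g) = β g) : Cfsg.IsIrrCharacter G (β * χ) := by
  rw [CharCore.isIrrCharacter_iff]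
  refine ⟨CharCore.isCharacter_mul (CharCore.IsIrrCharacter.isCharacter hβ)
    (CharCore.IsIrrCharacter.isCharacter hχ), ?_⟩
  have h := classInner_avg N (f := fun g => χ g * conj (χ g)) (β := fun g => β g * conj (β g))
    (fun n g => by simp [hinv n g])
  rw [avg_mul_conj_self hχ hN] at h
  refine Eq.trans ?_ ((h.symm.trans ?_).trans (CharCore.isIrrCharacter_iff.mp hβ).2)
  · simp only [CharCore.classInner_def, Pi.mul_apply, map_mul, Complex.conj_conj]
    congr 1
    exact Finset.sum_congr rfl fun g _ => by ring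
  · simp only [CharCore.classInner_def, Pi.one_apply, map_mul, Complex.conj_conj, one_mul]
    congr 1
    exact Finset.sum_congr rfl fun g _ => by ring

/-- Gallagher: the irreducible characters over an extendible irreducible character. -/
theorem exists_gallagher {ψ : G → ℂ} (hψ : Cfsg.IsIrrCharacter G ψ)
    (hne : Cfsg.classInner (fun n : N => ψ n) (fun n : N => χ n) ≠ 0) :
    ∃ β : G → ℂ, Cfsg.IsIrrCharacter G β ∧ (∀ (n : N) g, β ((n : G) * g) = β g) ∧ ψ = β * χ ∧
      avg N (fun g => ψ g * conj (χ g)) = β := by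
  set f : G → ℂ := fun g => ψ g * conj (χ g) with hf
  have hfc : Cfsg.IsCharacter G f :=
    CharCore.isCharacter_mul (CharCore.IsIrrCharacter.isCharacter hψ)
      (CharCore.IsCharacter.star (CharCore.IsIrrCharacter.isCharacter hχ))
  have hη := isCharacter_avg N hfc
  have h1 : avg N f 1 ≠ 0 := by
    rw [avg_one]
    simpa [CharCore.classInner_def, hf] using hne
  obtain ⟨γ, hγ⟩ : ∃ γ : Cfsg.IrrCharacter G, Cfsg.classInner (avg N f) γ ≠ 0 := by
    by_contra hcon
    push Not at hcon
    apply h1
    rw [CharCore.IsCharacter.eq_sum_classInner hη, Finset.sum_apply]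
    exact Finset.sum_eq_zero fun γ _ => by simp [hcon γ]
  have hinv : ∀ (n : N) g, (γ : G → ℂ) ((n : G) * g) = (γ : G → ℂ) g := by
    intro n g
    have havg : avg N (γ : G → ℂ) = γ := by
      rcases avg_irr N γ with h | h
      · exact h
      · exfalso
        apply hγ
        have hc := classInner_avg N (f := (γ : G → ℂ)) (β := avg N f) (fun n g => avg_mul_left N f n g)
        rw [h] at hc
        rw [← CharCore.conj_classInner, ← hc]
        simp [CharCore.classInner_def]
    rw [← havg]
    exact avg_mul_left N _ n g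
  have heq : ψ = (γ : G → ℂ) * χ := by
    by_contra hne'
    apply hγ
    rw [classInner_avg N hinv]
    have h0 := CharCore.classInner_irr_of_ne (χ := (⟨ψ, hψ⟩ : Cfsg.IrrCharacter G))
      (ψ := ⟨_, isIrrCharacter_mul hχ hN γ.2 hinv⟩) (fun h => hne' (congrArg Subtype.val h))
    refine Eq.trans ?_ h0
    simp only [CharCore.classInner_def, hf, Pi.mul_apply, map_mul]
    congr 1
    exact Finset.sum_congr rfl fun g _ => by ring
  refine ⟨γ, γ.2, hinv, heq, funext fun g => ?_⟩
  have h := congrFun (avg_mul_conj_self hχ hN) g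
  rw [avg_apply, Pi.one_apply] at h
  rw [avg_apply, hf]
  simp only [heq, Pi.mul_apply, hinv, mul_assoc, ← Finset.mul_sum]
  rw [mul_left_comm, h, mul_one]

omit hN in
theorem avg_mul_conj_eq_zero {ψ : G → ℂ} (hψ : Cfsg.IsIrrCharacter G ψ)
    (h0 : Cfsg.classInner (fun n : N => ψ n) (fun n : N => χ n) = 0) :
    avg N (fun g => ψ g * conj (χ g)) = 0 := by
  have hη := isCharacter_avg N (CharCore.isCharacter_mul (CharCore.IsIrrCharacter.isCharacter hψ)
      (CharCore.IsCharacter.star (CharCore.IsIrrCharacter.isCharacter hχ)))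
  funext g
  have h1 : avg N (fun g => ψ g * conj (χ g)) 1 = 0 := by
    rw [avg_one]
    refine Eq.trans ?_ h0
    simp [CharCore.classInner_def]
  have h2 := CharCore.IsCharacter.norm_apply_le hη g
  change ‖avg N (fun g => ψ g * conj (χ g)) g‖ ≤ ‖avg N (fun g => ψ g * conj (χ g)) 1‖ at h2
  rw [h1, norm_zero, norm_le_zero_iff] at h2
  exact h2

end Extendible

end Cfsg.Agent.CharDeep.Ext
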