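import Cfsg.Agent.CharDeep.Ext.Thompson
import Cfsg.Agent.Lib.CharClifford.Galois
import Mathlib.Algebra.CharP.Lemmas

/-! The number of classes of a group with a self-centralising element in an abelian normal Sylow
subgroup. -/

namespace Cfsg.Agent.CharDeep.Ext

open scoped ComplexConjugate

theorem exists_sum_pow_eq {R : Type*} [CommRing R] {p : ℕ} (hp : p.Prime) (j : ℕ) {ι : Type*}
    (s : Finset ι) (w : ι → R) :
    ∃ r : R, (∑ i ∈ s, w i) ^ p ^ j = ∑ i ∈ s, w i ^ p ^ j + p * r := by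
  classical
  induction s using Finset.induction_on with
  | empty => exact ⟨0, by simp [zero_pow (pow_pos hp.pos j).ne']⟩
  | insert a s ha ih =>
    obtain ⟨r, hr⟩ := ih
    obtain ⟨z, hz⟩ := exists_add_pow_prime_pow_eq hp (w a) (∑ i ∈ s, w i) j
    rw [Finset.sum_insert ha, Finset.sum_insert ha, hz, hr]
    exact ⟨r + w a * (∑ i ∈ s, w i) * z, by ring⟩

/-- A character of degree prime to `p` does not vanish at `p`-elements. -/
theorem apply_ne_zero_of_pow {G : Type*} [Group G] [Finite G] {χ : G → ℂ}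
    (hχ : Cfsg.IsCharacter G χ) {p : ℕ} (hp : p.Prime) {x : G} {j : ℕ} (hx : orderOf x = p ^ j)
    {d : ℕ} (hd : χ 1 = d) (hpd : ¬ p ∣ d) : χ x ≠ 0 := by
  intro h0
  obtain ⟨n, ρ, rfl⟩ := hχ
  obtain ⟨b, ω, hω, -, -, hk⟩ := CharCore.exists_eigenvalues ρ x
  have hint : ∀ i, IsIntegral ℤ (ω i) := fun i =>
    IsIntegral.of_pow (orderOf_pos x) (by rw [hω i]; exact isIntegral_one)
  let w : Fin (Module.finrank ℂ (Fin n → ℂ)) → integralClosure ℤ ℂ := fun i => ⟨ω i, hint i⟩
  obtain ⟨r, hr⟩ := exists_sum_pow_eq hp j Finset.univ w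
  have hC := congrArg (Subtype.val : integralClosure ℤ ℂ → ℂ) hr
  simp only [SubmonoidClass.coe_pow, AddSubmonoidClass.coe_finset_sum, AddMemClass.coe_add,
    MulMemClass.coe_mul, w] at hC
  have hs : ∑ i, ω i = 0 := by
    have := hk 1
    simp only [pow_one] at this
    rw [← this]; exact h0
  rw [hs, zero_pow (pow_pos hp.pos j).ne',
    Finset.sum_congr rfl (fun i _ => show ω i ^ p ^ j = 1 by rw [← hx]; exact hω i)] at hC
  rw [Representation.char_one] at hd
  simp only [Finset.sum_const, Finset.card_univ, Fintype.card_fin, nsmul_eq_mul, mul_one, hd] at hC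
  have hp0 : (p : ℂ) ≠ 0 := Nat.cast_ne_zero.mpr hp.ne_zero
  have hq : (r : ℂ) = (((-(d : ℚ)) / p : ℚ) : ℂ) := by
    push_cast
    rw [eq_div_iff hp0]
    have hcast : (((p : ℕ) : integralClosure ℤ ℂ) : ℂ) = (p : ℂ) := by norm_cast
    rw [hcast] at hC
    linear_combination -hC
  have hrint : IsIntegral ℤ (((-(d : ℚ)) / p : ℚ) : ℂ) := by rw [← hq]; exact r.2
  obtain ⟨k, hk'⟩ := CharClifford.exists_int_of_isIntegral_rat hrint
  rw [div_eq_iff (Nat.cast_ne_zero.mpr hp.ne_zero)] at hk'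
  have h2 : (p : ℤ) ∣ (d : ℤ) := ⟨-k, by
    have h3 : ((d : ℤ) : ℚ) = (((p : ℤ) * -k : ℤ) : ℚ) := by push_cast; linear_combination -hk'
    exact_mod_cast h3⟩
  exact hpd (Int.natCast_dvd_natCast.mp h2)

/-- Positive reals with product at least one have sum at least their number, with equality only
if all are one. -/
theorem card_le_sum_of_one_le_prod {ι : Type*} (s : Finset ι) (x : ι → ℝ) (hx : ∀ i ∈ s, 0 < x i)
    (h : 1 ≤ ∏ i ∈ s, x i) :
    (s.card : ℝ) ≤ ∑ i ∈ s, x i ∧ (∑ i ∈ s, x i = s.card → ∀ i ∈ s, x i = 1) := by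
  have hlog : 0 ≤ ∑ i ∈ s, Real.log (x i) := by
    rw [← Real.log_prod fun i hi => (hx i hi).ne']
    exact Real.log_nonneg h
  have hle : ∀ i ∈ s, Real.log (x i) ≤ x i - 1 := fun i hi => Real.log_le_sub_one_of_pos (hx i hi)
  have hsum := Finset.sum_le_sum hle
  rw [Finset.sum_sub_distrib, Finset.sum_const, nsmul_eq_mul, mul_one] at hsum
  refine ⟨by linarith, fun heq i hi => ?_⟩
  by_contra hne
  have := Finset.sum_lt_sum hle ⟨i, hi, Real.log_lt_sub_one_of_pos (hx i hi) hne⟩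
  rw [Finset.sum_sub_distrib, Finset.sum_const, nsmul_eq_mul, mul_one] at this
  linarith

variable {G : Type*} [Group G] [Fintype G]

theorem class_bound (p : ℕ) [hp : Fact p.Prime] (P : Sylow p G) [(P : Subgroup G).Normal]
    (hab : ∀ a ∈ P, ∀ b ∈ P, a * b = b * a) (g : G) (hg : g ∈ P)
    (hC : Subgroup.centralizer ({g} : Set G) = P) :
    Nat.card (Cfsg.IrrCharacter G) ≤ Nat.card P ∧
      (Nat.card (Cfsg.IrrCharacter G) = Nat.card P → commutator G ≤ P) := by
  classical
  have : NeZero (Nat.card G) := ⟨Nat.card_pos.ne'⟩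
  let x : (ZMod (Nat.card G))ˣ → G := fun m => g ^ (m : ZMod (Nat.card G)).val
  have hxP : ∀ m, x m ∈ (P : Subgroup G) := fun m => pow_mem hg _
  have hx0 : ∀ m (χ : Cfsg.IrrCharacter G), (χ : G → ℂ) (x m) ≠ 0 := by
    intro m χ
    obtain ⟨k, ρ, hρ, hchar⟩ := χ.2
    obtain ⟨j, hj⟩ := IsPGroup.iff_orderOf.mp P.isPGroup' ⟨x m, hxP m⟩
    rw [Subgroup.orderOf_mk] at hj
    refine apply_ne_zero_of_pow (CharCore.irr_isCharacter χ) hp.out hj (d := Module.finrank ℂ (Fin k → ℂ))
      (by rw [← hchar, Representation.char_one]) fun h => ?_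
    exact P.not_dvd_index (h.trans (Cfsg.Agent.S0169.result ρ (P : Subgroup G) hab))
  have hcent : ∀ m, Subgroup.centralizer ({x m} : Set G) = (P : Subgroup G) := by
    intro m
    rw [← hC]
    ext y
    rw [Subgroup.mem_centralizer_singleton_iff, Subgroup.mem_centralizer_singleton_iff]
    constructor
    · intro h
      have hback : g = x m ^ ((m⁻¹ : (ZMod (Nat.card G))ˣ) : ZMod (Nat.card G)).val := by
        have h1 : ((m : ZMod (Nat.card G)) * ((m⁻¹ : (ZMod (Nat.card G))ˣ) : ZMod (Nat.card G))).val = 1 % Nat.card G := by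
          rw [Units.mul_inv, ZMod.val_one_eq_one_mod]
        rw [ZMod.val_mul] at h1
        calc g = g ^ (1 % Nat.card G) := by rw [pow_mod_natCard, pow_one]
          _ = _ := by rw [← h1, pow_mod_natCard, pow_mul]
      rw [hback]
      exact (Commute.pow_right h _)
    · intro h
      exact Commute.pow_right h _
  let f : Cfsg.IrrCharacter G → (ZMod (Nat.card G))ˣ → ℝ := fun χ m => Complex.normSq ((χ : G → ℂ) (x m))
  have hfval : ∀ χ m, ((f χ m : ℝ) : ℂ) = (χ : G → ℂ) (x m) * (χ : G → ℂ) (x m)⁻¹ := fun χ m => by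
    rw [CharCore.irr_apply_inv, Complex.mul_conj]
  have hfpos : ∀ χ m, 0 < f χ m := fun χ m => Complex.normSq_pos.mpr (hx0 m χ)
  have hprod : ∀ χ, 1 ≤ ∏ m, f χ m := by
    intro χ
    obtain ⟨k, hk⟩ := CharClifford.exists_int_of_fixed (z := ((∏ m, f χ m : ℝ) : ℂ))
      (by
        rw [Complex.ofReal_prod]
        refine IsIntegral.prod _ fun m _ => ?_
        rw [hfval]
        exact (CharCore.IsCharacter.isIntegral (CharCore.irr_isCharacter χ) _).mul
          (CharCore.IsCharacter.isIntegral (CharCore.irr_isCharacter χ) _))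
      (by
        intro σ
        obtain ⟨m₀, hm₀, hσ⟩ := CharClifford.exists_coprime_map_isCharacter (CharCore.irr_isCharacter χ) σ
        rw [Complex.ofReal_prod, map_prod]
        refine Fintype.prod_equiv (Equiv.mulRight (ZMod.unitOfCoprime m₀ hm₀)) _ _ fun m => ?_
        rw [hfval, hfval, map_mul, hσ, hσ, inv_pow]
        have hxm : x (m * ZMod.unitOfCoprime m₀ hm₀) = x m ^ m₀ := by
          change g ^ ((m : ZMod (Nat.card G)) * (ZMod.unitOfCoprime m₀ hm₀ : ZMod (Nat.card G))).val = (g ^ (m : ZMod (Nat.card G)).val) ^ m₀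
          rw [ZMod.val_mul, ZMod.coe_unitOfCoprime, ZMod.val_natCast, pow_mod_natCard, pow_mul,
            pow_mod_natCard]
        rw [Equiv.coe_mulRight, hxm])
    have hk' : (∏ m, f χ m) = (k : ℝ) := by exact_mod_cast hk
    have hpos : 0 < (k : ℝ) := hk' ▸ Finset.prod_pos fun m _ => hfpos χ m
    rw [hk']
    have : (0 : ℤ) < k := by exact_mod_cast hpos
    exact_mod_cast (show (1 : ℤ) ≤ k by omega)
  have hχ : ∀ χ, (Fintype.card (ZMod (Nat.card G))ˣ : ℝ) ≤ ∑ m, f χ m ∧
      (∑ m, f χ m = Fintype.card (ZMod (Nat.card G))ˣ → ∀ m, f χ m = 1) := fun χ => by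
    obtain ⟨h1, h2⟩ := card_le_sum_of_one_le_prod Finset.univ (f χ) (fun m _ => hfpos χ m) (hprod χ)
    rw [Finset.card_univ] at h1 h2
    exact ⟨h1, fun h m => h2 h m (Finset.mem_univ m)⟩
  have htot : ∑ χ, ∑ m, f χ m = (Fintype.card (ZMod (Nat.card G))ˣ : ℝ) * (Nat.card P : ℝ) := by
    rw [Finset.sum_comm]
    have h1 : ∀ m, ∑ χ, f χ m = (Nat.card P : ℝ) := fun m => by
      have h := CharCore.sum_apply_mul_conj (x m) (x m)
      rw [if_pos (IsConj.refl _), hcent m] at h
      simp only [Complex.mul_conj] at h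
      exact_mod_cast h
    rw [Finset.sum_congr rfl fun m _ => h1 m, Finset.sum_const, Finset.card_univ, nsmul_eq_mul]
  have hU : (0 : ℝ) < Fintype.card (ZMod (Nat.card G))ˣ := by exact_mod_cast Fintype.card_pos
  have hlow := Finset.sum_le_sum (s := (Finset.univ : Finset (Cfsg.IrrCharacter G))) fun χ _ => (hχ χ).1
  rw [htot, Finset.sum_const, Finset.card_univ, nsmul_eq_mul] at hlow
  refine ⟨?_, fun heq => ?_⟩
  · rw [Nat.card_eq_fintype_card (α := Cfsg.IrrCharacter G)]
    have : (Fintype.card (Cfsg.IrrCharacter G) : ℝ) ≤ (Nat.card P : ℝ) := by nlinarith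
    exact_mod_cast this
  have hall : ∀ χ : Cfsg.IrrCharacter G, ∀ m, f χ m = 1 := by
    intro χ
    refine (hχ χ).2 ?_
    have hs : ∑ _χ : Cfsg.IrrCharacter G, (Fintype.card (ZMod (Nat.card G))ˣ : ℝ) = ∑ χ, ∑ m, f χ m := by
      rw [htot, Finset.sum_const, Finset.card_univ, nsmul_eq_mul, ← heq, Nat.card_eq_fintype_card (α := Cfsg.IrrCharacter G)]
      ring
    exact ((Finset.sum_eq_sum_iff_of_le fun χ _ => (hχ χ).1).mp hs χ (Finset.mem_univ χ)).symm
  have hlin : ∀ θ : Cfsg.IrrCharacter (G ⧸ (P : Subgroup G)), (θ : G ⧸ (P : Subgroup G) → ℂ) 1 = 1 := by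
    intro θ
    obtain ⟨d, -, hd⟩ := CharCore.IsIrrCharacter.exists_degree θ.2
    have h := hall ⟨fun y => (θ : G ⧸ (P : Subgroup G) → ℂ) (QuotientGroup.mk' (P : Subgroup G) y),
      CharCore.isIrrCharacter_comp_surjective θ.2 _ (QuotientGroup.mk'_surjective _)⟩ 1
    simp only [f] at h
    rw [show QuotientGroup.mk' (P : Subgroup G) (x 1) = 1 from (QuotientGroup.eq_one_iff _).mpr (hxP 1),
      hd, Complex.normSq_natCast] at h
    have h1 : d * d = 1 := by exact_mod_cast h
    rw [hd, Nat.eq_one_of_mul_eq_one_right h1, Nat.cast_one]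
  rw [commutator_def, Subgroup.commutator_le]
  intro a _ b _
  rw [← QuotientGroup.eq_one_iff, ← QuotientGroup.mk'_apply, map_commutatorElement,
    commutatorElement_eq_one_iff_mul_comm]
  exact commute_of_forall_linear hlin _ _

end Cfsg.Agent.CharDeep.Ext
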