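import Cfsg.Agent.CharDeep.Ext.GoingDown
import Mathlib.GroupTheory.Solvable
import Mathlib.GroupTheory.Nilpotent

/-! Relative M-groups (Isaacs 6.22, 6.23). -/

namespace Cfsg.Agent.CharDeep.Ext

open scoped ComplexConjugate

universe u

/-- No chief factor of an intermediate subgroup above `N` has square order. -/
def NoSquareChief {G : Type u} [Group G] (N : Subgroup G) : Prop :=
  ∀ (H K L : Subgroup G), N ≤ L → L < K → K ≤ H → (∀ h ∈ H, ∀ k ∈ K, h * k * h⁻¹ ∈ K) →
    (∀ h ∈ H, ∀ l ∈ L, h * l * h⁻¹ ∈ L) →
    (∀ M : Subgroup G, L ≤ M → M ≤ K → (∀ h ∈ H, ∀ m ∈ M, h * m * h⁻¹ ∈ M) → M = L ∨ M = K) →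
    ¬ IsSquare (L.relIndex K)

theorem noSquareChief_subgroupOf {G : Type u} [Group G] {N T : Subgroup G} (hNT : N ≤ T)
    (h : NoSquareChief N) : NoSquareChief (N.subgroupOf T) := by
  intro H K L hNL hLK hKH hK hL hc
  have hinj := T.subtype_injective
  rw [← Subgroup.relIndex_map_map_of_injective L K hinj]
  refine h (H.map T.subtype) (K.map T.subtype) (L.map T.subtype) ?_
    ((Subgroup.map_lt_map_iff_of_injective hinj).mpr hLK) (Subgroup.map_mono hKH) ?_ ?_ ?_
  · intro n hn
    exact ⟨⟨n, hNT hn⟩, hNL hn, rfl⟩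
  · rintro _ ⟨a, ha, rfl⟩ _ ⟨b, hb, rfl⟩
    exact ⟨_, hK a ha b hb, by simp⟩
  · rintro _ ⟨a, ha, rfl⟩ _ ⟨b, hb, rfl⟩
    exact ⟨_, hL a ha b hb, by simp⟩
  · intro M hLM hMK hM
    have hMT : M ≤ T := hMK.trans (Subgroup.map_subtype_le K)
    have hMeq : (M.subgroupOf T).map T.subtype = M := by
      rw [Subgroup.subgroupOf_map_subtype, inf_eq_left.mpr hMT]
    rcases hc (M.subgroupOf T) (fun x hx => hLM ⟨x, hx, rfl⟩)
      (fun x hx => by
        obtain ⟨y, hy, hyx⟩ := hMK hx
        obtain rfl : y = x := Subtype.ext hyx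
        exact hy)
      (fun a ha b hb => hM _ ⟨a, ha, rfl⟩ _ hb) with h' | h'
    · exact Or.inl (by rw [← hMeq, h'])
    · exact Or.inr (by rw [← hMeq, h'])

theorem isClassFunction_irr {G : Type u} [Group G] {χ : G → ℂ} (hχ : Cfsg.IsIrrCharacter G χ) :
    Cfsg.IsClassFunction G χ :=
  CharCore.IsCharacter.isClassFunction (CharCore.IsIrrCharacter.isCharacter hχ)

/-- Isaacs 6.22. -/
theorem exists_induced_restrict_irr : ∀ (j : ℕ) {G : Type u} [Group G] [Fintype G] (N : Subgroup G)
    [N.Normal], Nat.card G ≤ j → Group.IsSolvable (G ⧸ N) → NoSquareChief N →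
    ∀ {χ : G → ℂ}, Cfsg.IsIrrCharacter G χ →
      ∃ (H : Subgroup G) (hNH : N ≤ H) (ψ : H → ℂ), Cfsg.IsIrrCharacter H ψ ∧
        Cfsg.indFun H ψ = χ ∧ Cfsg.IsIrrCharacter N (fun n : N => ψ ⟨(n : G), hNH n.2⟩) := by
  intro j
  induction j with
  | zero => intro G _ _ N _ hj; exact absurd (Nat.le_zero.mp hj) Nat.card_pos.ne'
  | succ j ih =>
    intro G _ _ N _ hj hsolv hns χ hχ
    classical
    haveI := hsolv
    have hχc := CharCore.IsIrrCharacter.isCharacter hχ
    by_cases hN : Cfsg.IsIrrCharacter N (fun n : N => χ n)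
    · refine ⟨⊤, le_top, fun x => χ x, ?_, funext fun g => ?_, hN⟩
      · exact CharCore.isIrrCharacter_comp_surjective hχ (⊤ : Subgroup G).subtype
          fun g => ⟨⟨g, trivial⟩, rfl⟩
      · rw [CharInd.indFun_top (fun a b => isClassFunction_irr hχ (a : G) (b : G)) g]
    let good : Set (Subgroup G) := {K | K.Normal ∧ N ≤ K ∧ Cfsg.IsIrrCharacter K (fun x : K => χ x)}
    obtain ⟨K, hKg, hKmin⟩ := (wellFounded_lt (α := Subgroup G)).has_min good
      ⟨⊤, inferInstance, le_top, CharCore.isIrrCharacter_comp_surjective hχ (⊤ : Subgroup G).subtype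
        fun g => ⟨⟨g, trivial⟩, rfl⟩⟩
    obtain ⟨hKn, hNK, hKirr⟩ := hKg
    have hNK' : N < K := lt_of_le_of_ne hNK (fun h => hN (by subst h; exact hKirr))
    let below : Set (Subgroup G) := {L | L.Normal ∧ N ≤ L ∧ L < K}
    obtain ⟨L, hLg, hLmax⟩ := (wellFounded_gt (α := Subgroup G)).has_min below
      ⟨N, inferInstance, le_rfl, hNK'⟩
    obtain ⟨hLn, hNL, hLK⟩ := hLg
    have hchief : ∀ M : Subgroup G, M.Normal → L ≤ M → M ≤ K → M = L ∨ M = K := by
      intro M hM hLM hMK
      by_contra hcon
      push Not at hcon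
      exact hLmax M ⟨hM, hNL.trans hLM, lt_of_le_of_ne hMK hcon.2⟩ (lt_of_le_of_ne hLM hcon.1.symm)
    haveI := hKn
    haveI := hLn
    have hab : ⁅K, K⁆ ≤ L := by
      rcases hchief (⁅K, K⁆ ⊔ L) inferInstance le_sup_right
        (sup_le (Subgroup.commutator_le_right K K) hLK.le) with h | h
      · exact le_sup_left.trans h.le
      exfalso
      haveI : Group.IsSolvable (G ⧸ L) := by
        refine Group.isSolvable_of_surjective (f := QuotientGroup.map N L (MonoidHom.id G)
          (by rw [Subgroup.comap_id]; exact hNL)) ?_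
        intro q
        obtain ⟨g, rfl⟩ := QuotientGroup.mk'_surjective L q
        exact ⟨QuotientGroup.mk' N g, rfl⟩
      set π := QuotientGroup.mk' L
      have h2 := congrArg (Subgroup.map π) h
      rw [Subgroup.map_sup, Subgroup.map_commutator, QuotientGroup.map_mk'_self, sup_bot_eq] at h2
      have h3 : K.map π = ⊥ := by
        by_contra hne
        exact (Group.IsSolvable.commutator_lt_of_ne_bot hne).ne h2
      rw [Subgroup.map_eq_bot_iff, QuotientGroup.ker_mk'] at h3
      exact not_le_of_gt hLK h3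
    rcases going_down K L hLK.le hchief hab (fun x : K => χ x) hKirr
      (fun g n => isClassFunction_irr hχ (n : G) g) with h | ⟨φ, e, -, -, he⟩ | ⟨F, hF, hcard, hsum⟩
    · exact absurd hLK (hKmin L ⟨hLn, hNL, h⟩)
    · refine absurd (⟨e, ?_⟩ : IsSquare (L.relIndex K)) (hns ⊤ K L hNL hLK le_top
        (fun g _ k hk => hKn.conj_mem k hk g) (fun g _ l hl => hLn.conj_mem l hl g)
        (fun M h1 h2 h3 => hchief M ⟨fun m hm g => h3 g (Subgroup.mem_top g) m hm⟩ h1 h2))
      rw [← he, sq]
    have hK2 : 2 ≤ L.relIndex K := by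
      have h0 : L.relIndex K ≠ 0 := Subgroup.index_ne_zero_of_finite (H := L.subgroupOf K)
      have h1 : L.relIndex K ≠ 1 := fun h => not_le_of_gt hLK (Subgroup.relIndex_eq_one.mp h)
      omega
    obtain ⟨φ, hφF, φ', hφ'F, hne⟩ := Finset.one_lt_card.mp (show 1 < F.card by omega)
    have hin : ∀ θ ∈ F, Cfsg.classInner (fun x : L => χ x) θ = 1 := by
      intro θ hθ
      rw [show (fun x : L => χ x) = ∑ η ∈ F, η from hsum, CharCore.classInner_sum_left,
        Finset.sum_eq_single θ]
      · exact (CharCore.isIrrCharacter_iff.mp (hF θ hθ)).2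
      · intro η hη hne'
        exact CharCore.classInner_irr_of_ne (χ := (⟨η, hF η hη⟩ : Cfsg.IrrCharacter L))
          (ψ := ⟨θ, hF θ hθ⟩) (fun h => hne' (congrArg Subtype.val h))
      · intro h; exact absurd hθ h
    set T := inertia L φ with hT
    have hLT : L ≤ T := le_inertia L (isClassFunction_irr (hF φ hφF))
    have hTtop : T ≠ ⊤ := by
      intro htop
      have h1 := restrict_eq_smul L (φ := φ)
        (fun g n => congrFun (show conjFn L φ g = φ from htop.ge (Subgroup.mem_top g)) n)
        (hF φ hφF) hχ (by rw [hin φ hφF]; exact one_ne_zero)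
      rw [hin φ hφF, one_smul] at h1
      have h2 := hin φ' hφ'F
      rw [h1, CharCore.classInner_irr_of_ne (χ := (⟨φ, hF φ hφF⟩ : Cfsg.IrrCharacter L))
          (ψ := ⟨φ', hF φ' hφ'F⟩) (fun h => hne (congrArg Subtype.val h))] at h2
      exact zero_ne_one h2
    obtain ⟨ψ, hψ, hind, -⟩ := exists_inertia_induced L (hF φ hφF) T
      (fun g => ⟨fun hg n => congrFun (show conjFn L φ g = φ from hg) n,
        fun h => (funext h : conjFn L φ g = φ)⟩) hLT hχ (by rw [hin φ hφF]; exact one_ne_zero)
    have hNT : N ≤ T := hNL.trans hLT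
    have hlt : Nat.card T < Nat.card G := by
      refine lt_of_le_of_ne (Subgroup.card_le_card_group T) fun h => hTtop ?_
      exact Subgroup.eq_top_of_card_eq T h
    haveI : Group.IsSolvable (T ⧸ N.subgroupOf T) := by
      let f : T ⧸ N.subgroupOf T →* G ⧸ N :=
        QuotientGroup.map (N.subgroupOf T) N T.subtype (fun x hx => hx)
      have hf : Function.Injective f := by
        rw [← MonoidHom.ker_eq_bot_iff,
          show f.ker = _ from QuotientGroup.ker_map (N.subgroupOf T) N T.subtype _]
        refine (Subgroup.map_eq_bot_iff _).mpr ?_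
        rw [QuotientGroup.ker_mk']
        exact le_refl _
      exact Group.isSolvable_of_isSolvable_injective hf
    obtain ⟨H', hNH', ψ', hψ', hind', hres'⟩ := ih (N.subgroupOf T) (by omega) inferInstance
      (noSquareChief_subgroupOf hNT hns) hψ
    let e := H'.equivMapOfInjective T.subtype T.subtype_injective
    refine ⟨H'.map T.subtype, fun n hn => ⟨⟨n, hNT hn⟩, hNH' hn, rfl⟩, fun x => ψ' (e.symm x),
      CharCore.isIrrCharacter_comp_surjective hψ' e.symm.toMonoidHom e.symm.surjective, ?_, ?_⟩
    · rw [← CharInd.indFun_indFun T H' ψ', hind', hind]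
    · have h := CharCore.isIrrCharacter_comp_surjective hres'
        (Subgroup.subgroupOfEquivOfLe hNT).symm.toMonoidHom
        (Subgroup.subgroupOfEquivOfLe hNT).symm.surjective
      convert h using 1
      funext n
      refine congrArg ψ' ?_
      rw [MulEquiv.symm_apply_eq]
      exact Subtype.ext rfl

/-- A normal subgroup all whose commutators act as scalars, with abelian Sylow subgroups,
acts commutatively. -/
theorem rep_commute_of_scalar_commutators {G : Type u} [Group G] [Fintype G] {V : Type*}
    [AddCommGroup V] [Module ℂ V] [Nontrivial V]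
    (ρ : Representation ℂ G V) (M : Subgroup G)
    (hc : ∀ a ∈ M, ∀ b ∈ M, ∃ c : ℂ, ρ (a * b * a⁻¹ * b⁻¹) = c • (1 : Module.End ℂ V))
    (hp : ∀ (p : ℕ), p.Prime → ∀ P : Subgroup M, IsPGroup p P → ∀ a ∈ P, ∀ b ∈ P, a * b = b * a) :
    ∀ a ∈ M, ∀ b ∈ M, ρ (a * b) = ρ (b * a) := by
  classical
  have hmove : ∀ a b : G, ρ (a * b) = ρ (a * b * a⁻¹ * b⁻¹) * ρ (b * a) := fun a b => by
    rw [← map_mul]; congr 1; group
  choose c hc using fun a : M => fun b : M => hc a a.2 b b.2
  have hdef : ∀ a b : M, ρ ((a : G) * b) = c a b • ρ ((b : G) * a) := fun a b => by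
    rw [hmove, hc a b, smul_mul_assoc, one_mul]
  have hne : ∀ g : G, ρ g ≠ 0 := fun g h => by
    have h1 : ρ g * ρ g⁻¹ = 1 := by rw [← map_mul, mul_inv_cancel, map_one]
    rw [h, zero_mul] at h1
    exact zero_ne_one h1
  have hmul : ∀ a a' b : M, c (a * a') b = c a b * c a' b := by
    intro a a' b
    have e1 : ρ ((a : G) * a' * b) = (c a b * c a' b) • ρ ((b : G) * ((a : G) * a')) := by
      rw [mul_assoc, map_mul, hdef a' b, mul_smul_comm, ← map_mul, ← mul_assoc, map_mul, hdef a b,
        smul_mul_assoc, smul_smul, ← map_mul, mul_comm (c a' b), mul_assoc]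
    have e2 := hdef (a * a') b
    simp only [Subgroup.coe_mul] at e2
    rw [e1] at e2
    exact (smul_left_injective ℂ (hne _) e2).symm
  have hone : ∀ b : M, c 1 b = 1 := fun b => by
    have h := hdef 1 b
    simp only [OneMemClass.coe_one, one_mul, mul_one] at h
    exact smul_left_injective ℂ (hne (b : G)) (by simpa using h.symm)
  have hflip : ∀ a b : M, c b a * c a b = 1 := fun a b => by
    have h := hdef b a
    rw [hdef a b, smul_smul] at h
    exact smul_left_injective ℂ (hne ((b : G) * a)) (by simpa using h.symm)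
  let w : M → M →* ℂ := fun b =>
    { toFun := fun a => c a b, map_one' := hone b, map_mul' := fun a a' => hmul a a' b }
  have hpow : ∀ a b : M, c a b ^ orderOf a = 1 := fun a b => by
    have h := map_pow (w b) a (orderOf a)
    rw [pow_orderOf_eq_one, map_one] at h
    exact h.symm
  have hpow' : ∀ a b : M, c a b ^ orderOf b = 1 := fun a b => by
    have h := hpow b a
    have hf := hflip a b
    calc c a b ^ orderOf b = c a b ^ orderOf b * c b a ^ orderOf b := by rw [h, mul_one]
      _ = 1 := by rw [← mul_pow, mul_comm, hf, one_pow]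
  have key : ∀ (p q : ℕ) [Fact p.Prime] [Fact q.Prime] (P : Sylow p M) (Q : Sylow q M),
      ∀ a ∈ P, ∀ b ∈ Q, c a b = 1 := by
    intro p q hpp hqq P Q a ha b hb
    by_cases hpq : p = q
    · subst hpq
      obtain ⟨m, hm⟩ := MulAction.exists_smul_eq M Q P
      have hmb : m * b * m⁻¹ ∈ P := by
        have h1 := Subgroup.smul_mem_pointwise_smul _ (MulAut.conj m) _ hb
        rw [← Sylow.coe_subgroup_smul, hm] at h1
        exact h1
      have hcomm := hp p hpp.out (P : Subgroup M) P.isPGroup' a ha _ hmb
      have h1 : c a (m * b * m⁻¹) = 1 := by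
        have h := hdef a (m * b * m⁻¹)
        rw [show ((a : G) * ((m * b * m⁻¹ : M) : G)) = ((m * b * m⁻¹ : M) : G) * a from
          congrArg Subtype.val hcomm] at h
        exact smul_left_injective ℂ (hne _) (h.symm.trans (one_smul ℂ _).symm)
      have hr : ∀ b₁ b₂ : M, c a (b₁ * b₂) = c a b₁ * c a b₂ := fun b₁ b₂ => by
        have h12 := hflip (b₁ * b₂) a
        rw [hmul] at h12
        calc c a (b₁ * b₂) = c a (b₁ * b₂) * ((c b₁ a * c a b₁) * (c b₂ a * c a b₂)) := by
              rw [hflip, hflip, mul_one, mul_one]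
          _ = (c a (b₁ * b₂) * (c b₁ a * c b₂ a)) * (c a b₁ * c a b₂) := by ring
          _ = c a b₁ * c a b₂ := by rw [h12, one_mul]
      have hrone : c a 1 = 1 := by
        have h := hflip a 1
        rwa [hone, one_mul] at h
      have hinv : c a m * c a m⁻¹ = 1 := by rw [← hr, mul_inv_cancel, hrone]
      rw [hr, hr, mul_right_comm, hinv, one_mul] at h1
      exact h1
    · obtain ⟨i, hi⟩ := IsPGroup.iff_orderOf.mp P.isPGroup' ⟨a, ha⟩
      obtain ⟨k, hk⟩ := IsPGroup.iff_orderOf.mp Q.isPGroup' ⟨b, hb⟩
      rw [Subgroup.orderOf_mk] at hi hk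
      have h1 := hpow a b
      have h2 := hpow' a b
      rw [hi] at h1
      rw [hk] at h2
      have hco : Nat.Coprime (p ^ i) (q ^ k) := Nat.Coprime.pow i k
        ((Nat.coprime_primes hpp.out hqq.out).mpr hpq)
      rw [← orderOf_eq_one_iff]
      exact Nat.eq_one_of_dvd_coprimes hco (orderOf_dvd_of_pow_eq_one h1) (orderOf_dvd_of_pow_eq_one h2)
  have htop : ∀ (S : Subgroup M), (∀ (p : ℕ) [Fact p.Prime] (P : Sylow p M), (P : Subgroup M) ≤ S) →
      S = ⊤ := by
    intro S hS
    refine Subgroup.eq_top_of_card_eq S (Nat.dvd_antisymm S.card_subgroup_dvd_card ?_)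
    rw [← Nat.factorization_le_iff_dvd Nat.card_pos.ne' Nat.card_pos.ne']
    intro p
    by_cases hpp : p.Prime
    · haveI := Fact.mk hpp
      obtain ⟨P⟩ := (Sylow.nonempty : Nonempty (Sylow p M))
      have h1 := Subgroup.card_dvd_of_le (hS p P)
      rw [P.card_eq_multiplicity] at h1
      exact (hpp.pow_dvd_iff_le_factorization Nat.card_pos.ne').mp h1
    · simp [Nat.factorization_eq_zero_of_not_prime _ hpp]
  have hall : ∀ a b : M, c a b = 1 := by
    intro a b
    have h1 : ∀ (q : ℕ) [Fact q.Prime] (Q : Sylow q M), ∀ y ∈ Q, ∀ x : M, c x y = 1 := by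
      intro q _ Q y hy x
      let S : Subgroup M :=
        { carrier := {x | c x y = 1}
          one_mem' := hone y
          mul_mem' := fun {u v} (hu : c u y = 1) (hv : c v y = 1) => by
            change c (u * v) y = 1
            rw [hmul, hu, hv, one_mul]
          inv_mem' := fun {u} (hu : c u y = 1) => by
            change c u⁻¹ y = 1
            have h := hmul u⁻¹ u y
            rw [inv_mul_cancel, hone, hu, mul_one] at h
            exact h.symm }
      have h := htop S (fun p _ P x hx => key p q P Q x hx y hy)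
      exact (h.ge (Subgroup.mem_top x) : c x y = 1)
    let S : Subgroup M :=
      { carrier := {y | c y a = 1}
        one_mem' := hone a
        mul_mem' := fun {u v} (hu : c u a = 1) (hv : c v a = 1) => by
          change c (u * v) a = 1
          rw [hmul, hu, hv, one_mul]
        inv_mem' := fun {u} (hu : c u a = 1) => by
          change c u⁻¹ a = 1
          have h := hmul u⁻¹ u a
          rw [inv_mul_cancel, hone, hu, mul_one] at h
          exact h.symm }
    have h := htop S (fun q _ Q y hy => by
      have h2 := hflip a y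
      rw [h1 q Q y hy a, mul_one] at h2
      exact h2)
    have h3 := hflip a b
    rw [show c b a = 1 from h.ge (Subgroup.mem_top b), one_mul] at h3
    exact h3
  intro a ha b hb
  rw [hdef ⟨a, ha⟩ ⟨b, hb⟩, hall, one_smul]

/-- An irreducible character restricting irreducibly to a solvable normal subgroup with abelian
Sylow subgroups is monomial. -/
theorem exists_monomial_of_restrict : ∀ (j : ℕ) {G : Type u} [Group G] [Fintype G] (N : Subgroup G)
    [N.Normal], Nat.card G ≤ j → Group.IsSolvable N →
    (∀ (p : ℕ), p.Prime → ∀ P : Subgroup G, P ≤ N → IsPGroup p P → ∀ a ∈ P, ∀ b ∈ P, a * b = b * a) →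
    ∀ {χ : G → ℂ}, Cfsg.IsIrrCharacter G χ → Cfsg.IsIrrCharacter N (fun n : N => χ n) →
      ∃ (U : Subgroup G) (lam : U → ℂ), Cfsg.IsCharacter U lam ∧ lam 1 = 1 ∧
        Cfsg.indFun U lam = χ := by
  intro j
  induction j with
  | zero => intro G _ _ N _ hj; exact absurd (Nat.le_zero.mp hj) Nat.card_pos.ne'
  | succ j ih =>
    intro G _ _ N _ hj hsolv hp χ hχ hN
    classical
    haveI := hsolv
    have hχc := CharCore.IsIrrCharacter.isCharacter hχ
    by_cases hdeg : χ 1 = 1
    · refine ⟨⊤, fun x => χ x, CharCore.isCharacter_restrict hχc ⊤, hdeg, funext fun g => ?_⟩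
      rw [CharInd.indFun_top (fun a b => isClassFunction_irr hχ (a : G) (b : G)) g]
    obtain ⟨n, ρ, hρ, hchar⟩ := hχ
    haveI : Nontrivial (Fin n → ℂ) := CharInd.nontrivial_of_irreducible ρ
    obtain ⟨m, σ, hσ, hσchar⟩ := hN
    -- some element of `N` is not scalar
    have hnots : ¬ N ≤ CharInd.scalarSubgroup ρ := by
      intro hle
      apply hdeg
      have hdim : n = m := by
        have h1 := congrFun hσchar 1
        rw [Representation.char_one, ← hchar, OneMemClass.coe_one, Representation.char_one,
          Module.finrank_fin_fun, Module.finrank_fin_fun] at h1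
        exact_mod_cast h1.symm
      subst hdim
      have hs : ∀ x : N, x ∈ CharInd.scalarSubgroup σ := by
        intro x
        obtain ⟨c, hc⟩ := hle x.2
        have hρx : ρ (x : G) = c • LinearMap.id := LinearMap.ext hc
        obtain ⟨c', hc'⟩ : ∃ c' : ℂ, σ x = c' • LinearMap.id := by
          rw [← CharCore.norm_character_eq_iff σ x, congrFun hσchar x, ← hchar]
          exact (CharCore.norm_character_eq_iff ρ (x : G)).mpr ⟨c, hρx⟩
        exact ⟨c', fun v => by rw [hc']; rfl⟩
      have := CharInd.finrank_eq_one_of_scalar σ hs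
      rw [← hchar, Representation.char_one, this, Nat.cast_one]
    -- the last term of the derived series which is not scalar
    obtain ⟨D, hDn, hDN, hDs, hDc⟩ : ∃ D : Subgroup G, D.Normal ∧ D ≤ N ∧
        ¬ D ≤ CharInd.scalarSubgroup ρ ∧ ⁅D, D⁆ ≤ CharInd.scalarSubgroup ρ := by
      let S : ℕ → Subgroup G := fun i => (derivedSeries N i).map N.subtype
      obtain ⟨l, hl⟩ := hsolv.solvable
      have hex : ∃ i, S i ≤ CharInd.scalarSubgroup ρ :=
        ⟨l, by simp only [S]; rw [hl, Subgroup.map_bot]; exact bot_le⟩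
      have hfind := Nat.find_spec hex
      rcases hi : Nat.find hex with _ | i
      · exfalso
        rw [hi] at hfind
        apply hnots
        simp only [S] at hfind
        rwa [derivedSeries_zero, ← MonoidHom.range_eq_map, Subgroup.range_subtype] at hfind
      · rw [hi] at hfind
        refine ⟨S i, ?_, Subgroup.map_subtype_le _, Nat.find_min hex (by omega), ?_⟩
        · exact ⟨by
            rintro _ ⟨y, hy, rfl⟩ g
            refine ⟨MulAut.conjNormal g y, ?_, MulAut.conjNormal_apply g y⟩
            exact (Subgroup.characteristic_iff_map_eq.mp (derivedSeries_characteristic N i)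
              (MulAut.conjNormal g)).le (Subgroup.mem_map_of_mem _ hy)⟩
        · simp only [S]
          rw [← Subgroup.map_commutator, ← derivedSeries_succ]
          exact hfind
    have hcomm : ∀ a ∈ D, ∀ b ∈ D, ρ (a * b) = ρ (b * a) := by
      refine rep_commute_of_scalar_commutators ρ D (fun a ha b hb => ?_) (fun p hpp P hP a ha b hb => ?_)
      · obtain ⟨c, hc⟩ := hDc (Subgroup.commutator_mem_commutator ha hb)
        exact ⟨c, LinearMap.ext fun v => by rw [← commutatorElement_def]; exact hc v⟩
      · have := hp p hpp (P.map D.subtype) ((Subgroup.map_subtype_le P).trans hDN) (hP.map _)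
          (a : G) ⟨a, ha, rfl⟩ (b : G) ⟨b, hb, rfl⟩
        exact Subtype.ext this
    haveI := hDn
    obtain ⟨T, W, hW, hAT, hirr, -, htop, hdim, hind⟩ :=
      CharInd.exists_induced_of_commute_normal ρ D hcomm
    have hTtop : T ≠ ⊤ := fun h => hDs fun a ha => htop h a ha
    haveI := hirr
    set μ := (CharInd.restRep ρ T W hW).character with hμdef
    have hμ : Cfsg.IsIrrCharacter T μ := CharCore.isIrrCharacter_character _
    rw [hchar] at hind
    have hχirr : Cfsg.IsIrrCharacter G χ := ⟨n, ρ, hρ, hchar⟩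
    have hNirr : Cfsg.IsIrrCharacter N (fun x : N => χ x) := ⟨m, σ, hσ, hσchar⟩
    -- the restriction of `μ` to `T ⊓ N` is irreducible
    set N' := N.subgroupOf T with hN'
    set U := (T ⊓ N).subgroupOf N with hU
    let eU : U ≃* N' :=
      (Subgroup.subgroupOfEquivOfLe (inf_le_right : T ⊓ N ≤ N)).trans
        ((Subgroup.equivMapOfInjective N' T.subtype T.subtype_injective).trans
          (MulEquiv.subgroupCongr (by rw [hN', Subgroup.subgroupOf_map_subtype, inf_comm]))).symm
    have heU : ∀ x : U, ((eU x : T) : G) = ((x : N) : G) := by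
      intro x
      conv_rhs => rw [← eU.symm_apply_apply x]
      rfl
    let θ₀ : U → ℂ := fun x => μ (eU x : T)
    have hθ₀ : Cfsg.IsCharacter U θ₀ :=
      CharCore.isCharacter_comp (CharCore.IsIrrCharacter.isCharacter hμ) (N'.subtype.comp eU.toMonoidHom)
    have hθ := CharInd.isCharacter_indFun U hθ₀
    obtain ⟨a, ha⟩ := CharCore.IsCharacter.exists_sum hθ
    have hpos : Cfsg.classInner (Cfsg.indFun U θ₀) (fun x : N => χ x) ≠ 0 := by
      rw [CharInd.classInner_indFun_left U θ₀ (fun x y => isClassFunction_irr hχirr (x : G) (y : G))]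
      obtain ⟨b, hb⟩ := CharCore.IsCharacter.exists_sum (CharCore.isCharacter_restrict hχc T)
      have hone : b ⟨μ, hμ⟩ ≠ 0 := by
        intro h0
        have h1 : Cfsg.classInner (fun t : T => χ t) μ = 0 := by
          rw [hb]
          have := CharCore.classInner_sum_all (fun ψ => (b ψ : ℂ)) (⟨μ, hμ⟩ : Cfsg.IrrCharacter T)
          simpa [h0] using this
        rw [← CharInd.classInner_indFun_right T μ (isClassFunction_irr hχirr), ← hind,
          (CharCore.isIrrCharacter_iff.mp hχirr).2] at h1
        exact one_ne_zero h1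
      have hexp : (fun x : U => χ ((x : N) : G)) =
          ∑ ψ : Cfsg.IrrCharacter T, (b ψ : ℂ) • (fun x : U => (ψ : T → ℂ) (eU x : T)) := by
        funext x
        have := congrFun hb (eU x : T)
        rw [Finset.sum_apply] at this ⊢
        rw [← heU x]
        exact this
      rw [show (fun x : U => (fun x : N => χ x) (x : N)) = fun x : U => χ ((x : N) : G) from rfl, hexp,
        CharCore.classInner_sum_right]
      choose k hk using fun ψ : Cfsg.IrrCharacter T =>
        CharCore.IsCharacter.exists_classInner_eq_natCast hθ₀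
          (CharCore.isCharacter_comp (CharCore.irr_isCharacter ψ) (N'.subtype.comp eU.toMonoidHom))
      have hk' : ∀ ψ : Cfsg.IrrCharacter T,
          Cfsg.classInner θ₀ (fun x : U => (ψ : T → ℂ) (eU x : T)) = k ψ := hk
      simp only [CharCore.classInner_smul_right, hk', map_natCast]
      intro hsum
      have hsum' : ∑ ψ, b ψ * k ψ = 0 := by exact_mod_cast hsum
      have h0 := (mul_eq_zero.mp (Finset.sum_eq_zero_iff.mp hsum' ⟨μ, hμ⟩ (Finset.mem_univ _))).resolve_left hone
      have h1 := hk' ⟨μ, hμ⟩
      rw [h0, Nat.cast_zero] at h1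
      obtain ⟨l, hl⟩ := CharCore.IsCharacter.exists_sum hθ₀
      change Cfsg.classInner θ₀ θ₀ = 0 at h1
      rw [hl, CharCore.classInner_sum_sum] at h1
      simp only [map_natCast] at h1
      have h2 : ∑ ψ, l ψ * l ψ = 0 := by exact_mod_cast h1
      have h3 := congrFun hl 1
      simp only [fun ψ => mul_self_eq_zero.mp (Finset.sum_eq_zero_iff.mp h2 ψ (Finset.mem_univ _)),
        Nat.cast_zero, zero_smul, Finset.sum_const_zero, Pi.zero_apply] at h3
      refine CharCore.irr_apply_one_ne_zero ⟨μ, hμ⟩ ?_
      simp only [θ₀, map_one, OneMemClass.coe_one] at h3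
      exact h3
    have hindex : U.index ≤ T.index := by
      have : U.index = T.relIndex N := by
        rw [hU, ← Subgroup.relIndex, Subgroup.inf_relIndex_right]
      rw [this, ← Subgroup.relIndex_top_right T]
      exact Subgroup.relIndex_le_of_le_right le_top (by rw [Subgroup.relIndex_top_right]; exact Subgroup.index_ne_zero_of_finite)
    have hθeq : Cfsg.indFun U θ₀ = fun x : N => χ x := by
      set ν : Cfsg.IrrCharacter N := ⟨fun x : N => χ x, hNirr⟩ with hν
      have hνa : a ν ≠ 0 := fun h => hpos (by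
        rw [ha, show (fun x : N => χ x) = (ν : N → ℂ) from rfl, CharCore.classInner_sum_all, h,
          Nat.cast_zero])
      obtain ⟨d, hd0, hd⟩ := CharCore.IsIrrCharacter.exists_degree hμ
      choose dd hdd0 hdd using fun ψ : Cfsg.IrrCharacter N => CharCore.IsIrrCharacter.exists_degree ψ.2
      have h1 : U.index * d = ∑ ψ, a ψ * dd ψ := by
        have := congrFun ha 1
        rw [CharInd.indFun_apply_one, Finset.sum_apply] at this
        simp only [θ₀, map_one, OneMemClass.coe_one, hd, Pi.smul_apply, smul_eq_mul, hdd] at this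
        exact_mod_cast this
      have h2 : T.index * d = dd ν := by
        have := hdd ν
        simp only [hν, OneMemClass.coe_one] at this
        rw [congrFun hind 1, CharInd.indFun_apply_one, hd] at this
        exact_mod_cast this
      have h3 : U.index * d ≤ dd ν := h2 ▸ Nat.mul_le_mul_right d hindex
      rw [h1, ← Finset.add_sum_erase _ _ (Finset.mem_univ ν)] at h3
      have h4 : dd ν ≤ a ν * dd ν := Nat.le_mul_of_pos_left _ (Nat.pos_of_ne_zero hνa)
      have h5 : ∑ ψ ∈ Finset.univ.erase ν, a ψ * dd ψ = 0 := by omega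
      have h6 : a ν = 1 := Nat.eq_of_mul_eq_mul_right (hdd0 ν) (by omega)
      rw [ha, Finset.sum_eq_single ν]
      · rw [h6, Nat.cast_one, one_smul]
      · intro ψ _ hne
        have := Finset.sum_eq_zero_iff.mp h5 ψ (Finset.mem_erase.mpr ⟨hne, Finset.mem_univ _⟩)
        rw [(mul_eq_zero.mp this).resolve_right (hdd0 ψ).ne', Nat.cast_zero, zero_smul]
      · intro h; exact absurd (Finset.mem_univ _) h
    have hμN : Cfsg.IsIrrCharacter N' (fun x : N' => μ x) := by
      have hirrU : Cfsg.IsIrrCharacter U θ₀ := by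
        obtain ⟨l, hl⟩ := CharCore.IsCharacter.exists_sum hθ₀
        have hnorm := irr_of_norm_sum (fun ψ : Cfsg.IrrCharacter U => Cfsg.indFun U (ψ : U → ℂ))
          (fun ψ => CharInd.isCharacter_indFun U (CharCore.irr_isCharacter ψ))
          (fun ψ => by
            rw [CharInd.indFun_apply_one]
            exact mul_ne_zero (Nat.cast_ne_zero.mpr Subgroup.index_ne_zero_of_finite)
              (CharCore.irr_apply_one_ne_zero ψ))
        rw [CharCore.isIrrCharacter_iff]
        refine ⟨hθ₀, ?_⟩
        have hind1 : Cfsg.indFun U θ₀ = ∑ ψ, (l ψ : ℂ) • Cfsg.indFun U (ψ : U → ℂ) := by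
          rw [hl, CharInd.indFun_sum]
          exact Finset.sum_congr rfl fun ψ _ => CharInd.indFun_smul U _ _
        have hn1 : Cfsg.classInner (Cfsg.indFun U θ₀) (Cfsg.indFun U θ₀) = 1 := by
          rw [hθeq]; exact (CharCore.isIrrCharacter_iff.mp hNirr).2
        choose M hM using fun ψ ψ' : Cfsg.IrrCharacter U => CharCore.IsCharacter.exists_classInner_eq_natCast
          (CharInd.isCharacter_indFun U (CharCore.irr_isCharacter ψ))
          (CharInd.isCharacter_indFun U (CharCore.irr_isCharacter ψ'))
        have hMd : ∀ ψ, 1 ≤ M ψ ψ := by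
          intro ψ
          rcases Nat.eq_zero_or_pos (M ψ ψ) with h | h
          swap
          · exact h
          exfalso
          obtain ⟨q, hq⟩ := CharCore.IsCharacter.exists_sum
            (CharInd.isCharacter_indFun U (CharCore.irr_isCharacter ψ))
          have h0 := hM ψ ψ
          rw [h, Nat.cast_zero, hq, CharCore.classInner_sum_sum] at h0
          simp only [map_natCast] at h0
          have h1 : ∑ i, q i * q i = 0 := by exact_mod_cast h0
          have h2 := congrFun hq 1
          simp only [fun i => mul_self_eq_zero.mp (Finset.sum_eq_zero_iff.mp h1 i (Finset.mem_univ _)),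
            Nat.cast_zero, zero_smul, Finset.sum_const_zero, Pi.zero_apply, CharInd.indFun_apply_one] at h2
          exact mul_ne_zero (Nat.cast_ne_zero.mpr Subgroup.index_ne_zero_of_finite)
            (CharCore.irr_apply_one_ne_zero ψ) h2
        rw [hind1] at hn1
        simp only [CharCore.classInner_sum_left, CharCore.classInner_sum_right,
          CharCore.classInner_smul_left, CharCore.classInner_smul_right, hM, map_natCast,
          Finset.mul_sum] at hn1
        have hle : ∑ ψ, l ψ * l ψ ≤ 1 := by
          have hn2 : ∑ ψ, ∑ ψ', l ψ * (l ψ' * M ψ' ψ) = 1 := by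
            first
              | exact_mod_cast hn1
              | (rw [Finset.sum_comm] at hn1; exact_mod_cast hn1)
          rw [← hn2]
          refine Finset.sum_le_sum fun ψ _ => le_trans ?_
            (Finset.single_le_sum (fun ψ' _ => Nat.zero_le (l ψ * (l ψ' * M ψ' ψ))) (Finset.mem_univ ψ))
          exact Nat.mul_le_mul_left _ (Nat.le_mul_of_pos_right _ (hMd ψ))
        rw [hl, CharCore.classInner_sum_sum]
        simp only [map_natCast]
        rcases (by omega : ∑ ψ, l ψ * l ψ = 0 ∨ ∑ ψ, l ψ * l ψ = 1) with h0 | h0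
        · exfalso
          have hz : ∀ ψ, l ψ = 0 := fun ψ =>
            mul_self_eq_zero.mp (Finset.sum_eq_zero_iff.mp h0 ψ (Finset.mem_univ _))
          simp [hz] at hn1
        · exact_mod_cast h0
      have h := CharCore.isIrrCharacter_comp_surjective hirrU eU.symm.toMonoidHom eU.symm.surjective
      convert h using 1
      funext x
      simp [θ₀]
    have hlt : Nat.card T < Nat.card G :=
      lt_of_le_of_ne (Subgroup.card_le_card_group T) fun h => hTtop (Subgroup.eq_top_of_card_eq T h)
    have hNsolv : Group.IsSolvable N' :=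
      Group.isSolvable_of_isSolvable_injective (f := (T.subtype.comp N'.subtype).codRestrict N fun x => x.2)
        fun x y h => Subtype.ext (Subtype.ext (congrArg (fun z : N => (z : G)) h))
    obtain ⟨U', lam, hlam, hlam1, hlami⟩ := ih N' (by omega) hNsolv (fun p hpp P hPN hP a ha b hb => by
      have := hp p hpp (P.map T.subtype) (by rintro _ ⟨y, hy, rfl⟩; exact hPN hy) (hP.map _)
        (a : G) ⟨a, ha, rfl⟩ (b : G) ⟨b, hb, rfl⟩
      exact Subtype.ext this) hμ hμN
    let e := U'.equivMapOfInjective T.subtype T.subtype_injective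
    refine ⟨U'.map T.subtype, fun x => lam (e.symm x),
      CharCore.isCharacter_comp hlam e.symm.toMonoidHom, by simp only [map_one]; exact hlam1, ?_⟩
    rw [← CharInd.indFun_indFun T U' lam, hlami, ← hind]

end Cfsg.Agent.CharDeep.Ext
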