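import Cfsg.Agent.CharDeep.Ext.Wrap
import Cfsg.Agent.CharDeep.Ext.GoingDown
import Cfsg.Agent.S0169

/-! Degrees that are powers of a prime. -/

namespace Cfsg.Agent.CharDeep.Ext

open scoped ComplexConjugate

variable {G : Type*} [Group G] [Finite G]

/-- An element in the kernel of every irreducible character is trivial. -/
theorem eq_one_of_forall_irr {g : G} (h : ∀ χ : Cfsg.IrrCharacter G, (χ : G → ℂ) g = (χ : G → ℂ) 1) :
    g = 1 := by
  have := Fintype.ofFinite G
  exact isConj_one_left.mp ((CharCore.isConj_iff_forall_irr g 1).mpr h)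

/-- A group all of whose irreducible characters are linear is commutative. -/
theorem commute_of_forall_linear (h : ∀ χ : Cfsg.IrrCharacter G, (χ : G → ℂ) 1 = 1) (a b : G) :
    a * b = b * a := by
  rw [← mul_inv_eq_one, show a * b * (b * a)⁻¹ = a * b * a⁻¹ * b⁻¹ by group]
  refine eq_one_of_forall_irr fun χ => ?_
  obtain ⟨f, hf⟩ := CharCore.IsCharacter.exists_hom_of_degree_one (CharCore.irr_isCharacter χ) (h χ)
  rw [hf]
  simp [mul_comm (f a)]

omit [Finite G] in
theorem dvd_degree_of_constituent [Fintype G] (N : Subgroup G) [N.Normal] [Fintype N] {θ : N → ℂ}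
    (hθ : Cfsg.IsIrrCharacter N θ) {χ : G → ℂ} (hχ : Cfsg.IsIrrCharacter G χ) {d D : ℕ}
    (hd : θ 1 = d) (hD : χ 1 = D) (h : Cfsg.classInner (fun n : N => χ n) θ ≠ 0) : d ∣ D := by
  have hc := CharCore.isCharacter_restrict (CharCore.IsIrrCharacter.isCharacter hχ) N
  obtain ⟨m, hm⟩ := CharCore.IsCharacter.exists_sum hc
  choose dd hdd0 hdd using fun ψ : Cfsg.IrrCharacter N => CharCore.IsIrrCharacter.exists_degree ψ.2
  have h1 : D = ∑ ψ, m ψ * dd ψ := by
    have h2 := congrFun hm 1
    simp only [OneMemClass.coe_one, hD, Finset.sum_apply, Pi.smul_apply, smul_eq_mul, hdd] at h2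
    exact_mod_cast h2
  rw [h1]
  refine Finset.dvd_sum fun ψ _ => ?_
  by_cases hm0 : m ψ = 0
  · rw [hm0, zero_mul]; exact dvd_zero _
  refine dvd_mul_of_dvd_right (dvd_of_eq ?_) _
  have hne : Cfsg.classInner (fun n : N => χ n) ψ ≠ 0 := by
    rw [hm, CharCore.classInner_sum_all]; exact_mod_cast hm0
  obtain ⟨x, hx⟩ := exists_conjFn_eq N hθ ψ.2 hχ h hne
  have h3 := congrFun hx 1
  rw [hdd ψ] at h3
  have h4 : conjFn N θ x 1 = θ 1 := congrArg θ (Subtype.ext (by simp))
  rw [h4, hd] at h3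
  exact_mod_cast h3

theorem not_dvd_orderOf {A : Type*} [Monoid A] (p : ℕ) (hp : p.Prime) {l : A}
    (h : ∀ x : A, x ^ p = 1 → x = 1) (hfin : 0 < orderOf l) (hd : p ∣ orderOf l) : False := by
  have h1 := h (l ^ (orderOf l / p)) (by rw [← pow_mul, Nat.div_mul_cancel hd, pow_orderOf_eq_one])
  have h2 := Nat.le_of_dvd (Nat.div_pos (Nat.le_of_dvd hfin hd) hp.pos) (orderOf_dvd_of_pow_eq_one h1)
  exact absurd h2 (not_le_of_gt (Nat.div_lt_self hfin hp.one_lt))

theorem linear_eq_one_of_minimal (N : Subgroup G) [hN : N.Normal] (p : ℕ) [hp : Fact p.Prime] {k : ℕ}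
    (hk : N.index = p ^ k) (hmin : ∀ M : Subgroup G, M.Normal → (∃ j, M.index = p ^ j) → ¬ M < N)
    (l : N →* ℂˣ) (hl : l ^ p = 1) : l = 1 := by
  classical
  have := Fintype.ofFinite G
  set M := (l.ker.map N.subtype).normalCore with hM
  let Φ : N →* (G → ℂˣ) :=
    { toFun := fun n x => l ⟨x * n * x⁻¹, hN.conj_mem (n : G) n.2 x⟩
      map_one' := funext fun x => (congrArg l (Subtype.ext (by simp))).trans (map_one l)
      map_mul' := fun a b => funext fun x => by
        rw [Pi.mul_apply, ← map_mul]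
        exact congrArg l (Subtype.ext (by simp [mul_assoc])) }
  have hMN : M ≤ N := (Subgroup.normalCore_le _).trans (Subgroup.map_subtype_le _)
  have hker : Φ.ker = M.subgroupOf N := by
    ext n
    rw [MonoidHom.mem_ker, Subgroup.mem_subgroupOf]
    constructor
    · intro h x
      refine ⟨⟨x * n * x⁻¹, hN.conj_mem (n : G) n.2 x⟩, congrFun h x, rfl⟩
    · intro h
      funext x
      obtain ⟨y, hy, hyx⟩ := h x
      change l ⟨x * n * x⁻¹, hN.conj_mem (n : G) n.2 x⟩ = 1
      rw [← show y = ⟨x * n * x⁻¹, hN.conj_mem (n : G) n.2 x⟩ from Subtype.ext hyx]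
      exact hy
  have hrange : IsPGroup p Φ.range := by
    rintro ⟨_, n, rfl⟩
    refine ⟨1, Subtype.ext (funext fun x => ?_)⟩
    have hlp := DFunLike.congr_fun hl ⟨x * n * x⁻¹, hN.conj_mem (n : G) n.2 x⟩
    rw [MonoidHom.pow_apply, MonoidHom.one_apply] at hlp
    simpa [Φ] using hlp
  haveI : Finite Φ.range := Finite.of_surjective Φ.rangeRestrict Φ.rangeRestrict_surjective
  obtain ⟨i, hi⟩ := IsPGroup.iff_card.mp hrange
  have hidx : M.index = p ^ (i + k) := by
    rw [← Subgroup.relIndex_mul_index hMN, hk, pow_add]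
    congr 1
    rw [Subgroup.relIndex, ← hker, Subgroup.index_ker, hi]
  have hMeq : M = N := by
    by_contra hne
    exact hmin M inferInstance ⟨_, hidx⟩ (lt_of_le_of_ne hMN hne)
  ext n
  obtain ⟨y, hy, hyn⟩ := Subgroup.normalCore_le _ (hMeq.ge n.2 : (n : G) ∈ M)
  obtain rfl : y = n := Subtype.ext hyn
  exact congrArg Units.val hy

/-- Thompson: if every degree is a power of `p`, the `p'`-residual is an abelian `p'`-group. -/
theorem exists_abelian_normal_complement (p : ℕ) (hp : p.Prime)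
    (hdeg : ∀ χ : Cfsg.IrrCharacter G, ∃ k : ℕ, (χ : G → ℂ) 1 = (p : ℂ) ^ k) :
    ∃ A : Subgroup G, A.Normal ∧ (∀ a ∈ A, ∀ b ∈ A, a * b = b * a) ∧
      Nat.Coprime (Nat.card A) p ∧ ∃ k : ℕ, A.index = p ^ k := by
  classical
  haveI := Fact.mk hp
  have := Fintype.ofFinite G
  obtain ⟨N, ⟨hN, k, hk⟩, hmin⟩ := (wellFounded_lt (α := Subgroup G)).has_min
    {M : Subgroup G | M.Normal ∧ ∃ j, M.index = p ^ j} ⟨⊤, inferInstance, 0, by simp⟩
  haveI := hN
  have := Fintype.ofFinite N
  have hlin1 := linear_eq_one_of_minimal N p hk (fun M hM hj => hmin M ⟨hM, hj⟩)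
  have hord : ∀ l : N →* ℂˣ, Nat.Coprime p (orderOf l) := by
    intro l
    rw [hp.coprime_iff_not_dvd]
    intro hd
    have hfin : 0 < orderOf l := by
      rw [orderOf_pos_iff, isOfFinOrder_iff_pow_eq_one]
      exact ⟨Nat.card N, Nat.card_pos, MonoidHom.ext fun n => by
        rw [MonoidHom.pow_apply, ← map_pow, pow_card_eq_one', map_one]; rfl⟩
    exact not_dvd_orderOf p hp hlin1 hfin hd
  choose d hd0 hd using fun θ : Cfsg.IrrCharacter N => CharCore.IsIrrCharacter.exists_degree θ.2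
  -- invariant characters of degree prime to `p` are linear
  have hfixlin : ∀ θ : Cfsg.IrrCharacter N, Inv N (θ : N → ℂ) → ¬ p ∣ d θ → d θ = 1 := by
    intro θ hinv hpd
    obtain ⟨χ, ⟨hχ, hext, -⟩, -⟩ := exists_ext_detOrder N θ.2 hinv (hd θ) (by
      rw [hk, detOrder_eq]
      exact Nat.Coprime.pow_left k ((hord _).mul_right (hp.coprime_iff_not_dvd.mpr hpd)))
    obtain ⟨i, hi⟩ := hdeg ⟨χ, hχ⟩
    have h1 : d θ = p ^ i := by
      have h2 : ((d θ : ℕ) : ℂ) = ((p ^ i : ℕ) : ℂ) := by
        push_cast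
        rw [← hi, ← hd θ, ← hext 1]; rfl
      exact_mod_cast h2
    rcases i with _ | i
    · simpa using h1
    · exact absurd (h1 ▸ dvd_pow_self p (Nat.succ_ne_zero i)) hpd
  obtain ⟨P⟩ := (Sylow.nonempty : Nonempty (Sylow p G))
  have hPN : (P : Subgroup G) ⊔ N = ⊤ := by
    rw [← Subgroup.index_eq_one]
    refine Nat.eq_one_of_dvd_coprimes (a := (P : Subgroup G).index) (b := N.index) ?_
      (Subgroup.index_dvd_of_le le_sup_left) (Subgroup.index_dvd_of_le le_sup_right)
    rw [hk]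
    exact Nat.Coprime.pow_right k ((hp.coprime_iff_not_dvd.mpr P.not_dvd_index).symm)
  letI act : MulAction (P : Subgroup G) (Cfsg.IrrCharacter N) :=
    { smul := fun x θ => ⟨conjFn N (θ : N → ℂ) (x : G)⁻¹, isIrrCharacter_conjFn N θ.2 _⟩
      one_smul := fun θ => Subtype.ext (by
        change conjFn N (θ : N → ℂ) ((1 : (P : Subgroup G)) : G)⁻¹ = _
        rw [OneMemClass.coe_one, inv_one, conjFn_one])
      mul_smul := fun x y θ => Subtype.ext (by
        change conjFn N (θ : N → ℂ) ((x * y : (P : Subgroup G)) : G)⁻¹ =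
          conjFn N (conjFn N (θ : N → ℂ) (y : G)⁻¹) (x : G)⁻¹
        rw [conjFn_conjFn, Subgroup.coe_mul, mul_inv_rev]) }
  have hdsmul : ∀ (x : (P : Subgroup G)) (θ : Cfsg.IrrCharacter N), d (x • θ) = d θ := fun x θ => by
    have h1 : ((x • θ : Cfsg.IrrCharacter N) : N → ℂ) 1 = (θ : N → ℂ) 1 :=
      congrArg (θ : N → ℂ) (Subtype.ext (by simp))
    rw [hd, hd] at h1
    exact_mod_cast h1
  have hfix : ∀ θ : Cfsg.IrrCharacter N, (∀ x : (P : Subgroup G), x • θ = θ) ↔ Inv N (θ : N → ℂ) := by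
    intro θ
    constructor
    · intro h g n
      have hg : g ∈ inertia N (θ : N → ℂ) := by
        have hle : (P : Subgroup G) ⊔ N ≤ inertia N (θ : N → ℂ) := by
          refine sup_le (fun x hx => ?_) (le_inertia N (CharCore.irr_isClassFunction θ))
          have h1 := congrArg Subtype.val (h (⟨x, hx⟩⁻¹))
          change conjFn N (θ : N → ℂ) ((⟨x, hx⟩⁻¹ : (P : Subgroup G)) : G)⁻¹ = θ at h1
          rw [InvMemClass.coe_inv, inv_inv] at h1
          exact h1
        exact hle (hPN ▸ Subgroup.mem_top g)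
      exact congrFun hg n
    · intro h x
      exact Subtype.ext (funext fun n => h (x : G)⁻¹ n)
  -- the sum of the squares of the degrees modulo `p`
  set L := Finset.univ.filter fun θ : Cfsg.IrrCharacter N => (∀ x : (P : Subgroup G), x • θ = θ) ∧ d θ = 1
  have hsum : (∑ θ, d θ * d θ) ≡ L.card [MOD p] := by
    rw [← ZMod.natCast_eq_natCast_iff]
    push_cast
    rw [← Finset.sum_fiberwise_of_maps_to (t := (Finset.univ.image d)) (g := d)
      (fun θ hθ => Finset.mem_image_of_mem d hθ)]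
    have hfib : ∀ j : ℕ, ∑ θ ∈ Finset.univ.filter (fun θ => d θ = j), ((d θ : ZMod p) * d θ) =
        ∑ θ ∈ Finset.univ.filter (fun θ => d θ = j),
          (if (∀ x : (P : Subgroup G), x • θ = θ) ∧ d θ = 1 then 1 else 0) := by
      intro j
      letI act' : MulAction (P : Subgroup G) {θ : Cfsg.IrrCharacter N // d θ = j} :=
        { smul := fun x θ => ⟨x • θ.1, (hdsmul x θ.1).trans θ.2⟩
          one_smul := fun θ => Subtype.ext (one_smul _ θ.1)
          mul_smul := fun x y θ => Subtype.ext (mul_smul x y θ.1) }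
      have hmod := P.isPGroup'.card_modEq_card_fixedPoints {θ : Cfsg.IrrCharacter N // d θ = j}
      rw [← ZMod.natCast_eq_natCast_iff] at hmod
      have hfixcard : Nat.card (MulAction.fixedPoints (P : Subgroup G) {θ : Cfsg.IrrCharacter N // d θ = j})
          = (Finset.univ.filter fun θ => d θ = j ∧ ∀ x : (P : Subgroup G), x • θ = θ).card := by
        rw [← Fintype.card_subtype, ← Nat.card_eq_fintype_card]
        exact Nat.card_congr
          { toFun := fun θ => ⟨θ.1.1, θ.1.2, fun x => congrArg Subtype.val (θ.2 x)⟩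
            invFun := fun θ => ⟨⟨θ.1, θ.2.1⟩, fun x => Subtype.ext (θ.2.2 x)⟩
            left_inv := fun θ => rfl
            right_inv := fun θ => rfl }
      rw [hfixcard, Nat.card_eq_fintype_card, Fintype.card_subtype] at hmod
      rw [Finset.sum_congr rfl (fun θ hθ => by rw [(Finset.mem_filter.mp hθ).2]), Finset.sum_const,
        nsmul_eq_mul, hmod, Finset.sum_ite, Finset.sum_const_zero, add_zero, Finset.sum_const,
        nsmul_eq_mul, mul_one, Finset.filter_filter]
      by_cases hj : j = 1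
      · subst hj
        rw [Nat.cast_one, one_mul, mul_one]
        exact congrArg (fun s : Finset (Cfsg.IrrCharacter N) => (s.card : ZMod p))
          (Finset.filter_congr fun θ _ => by tauto)
      · rw [show (Finset.univ.filter fun θ => d θ = j ∧ (∀ x : (P : Subgroup G), x • θ = θ) ∧ d θ = 1) = ∅
            from Finset.filter_eq_empty_iff.mpr fun θ _ h => hj (h.1.symm.trans h.2.2),
          Finset.card_empty, Nat.cast_zero]
        by_cases hpj : p ∣ j
        · rw [(ZMod.natCast_eq_zero_iff _ _).mpr hpj, zero_mul, mul_zero]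
        · rw [show (Finset.univ.filter fun θ => d θ = j ∧ ∀ x : (P : Subgroup G), x • θ = θ) = ∅
            from Finset.filter_eq_empty_iff.mpr fun θ _ h =>
              hj (h.1.symm.trans (hfixlin θ ((hfix θ).mp h.2) (h.1 ▸ hpj))),
            Finset.card_empty, Nat.cast_zero, zero_mul]
    rw [Finset.sum_congr rfl fun j _ => hfib j,
      Finset.sum_fiberwise_of_maps_to (fun θ hθ => Finset.mem_image_of_mem d hθ), Finset.sum_boole]
  have hNcard : ∑ θ, d θ * d θ = Nat.card N := by
    have h := CharCore.sum_degree_sq (G := N)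
    simp only [hd] at h
    exact_mod_cast (Eq.trans (by push_cast; exact Finset.sum_congr rfl fun θ _ => (sq _).symm) h :
      ((∑ θ, d θ * d θ : ℕ) : ℂ) = (Nat.card N : ℂ))
  -- invariant linear characters form a group of order prime to `p`
  let I : Subgroup (N →* ℂˣ) :=
    { carrier := {l | ∀ (g : G) (n : N), l ⟨g * n * g⁻¹, hN.conj_mem (n : G) n.2 g⟩ = l n}
      one_mem' := fun _ _ => rfl
      mul_mem' := fun {a b} ha hb g n => by rw [MonoidHom.mul_apply, MonoidHom.mul_apply, ha, hb]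
      inv_mem' := fun {a} ha g n => by rw [MonoidHom.inv_apply, MonoidHom.inv_apply, ha] }
  haveI : Finite (N →* ℂˣ) := Finite.of_equiv _ CharCore.linearEquivHom.symm
  have hLI : L.card = Nat.card I := by
    rw [← Fintype.card_coe, ← Nat.card_eq_fintype_card]
    refine (Nat.card_congr (Equiv.ofBijective
      (fun l : I => (⟨⟨fun n => ((l : N →* ℂˣ) n : ℂ), CharCore.isIrrCharacter_hom _⟩,
        Finset.mem_filter.mpr ⟨Finset.mem_univ _,
          (hfix _).mpr fun g n => congrArg Units.val (l.2 g n), by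
            have h1 := hd ⟨fun n => ((l : N →* ℂˣ) n : ℂ), CharCore.isIrrCharacter_hom _⟩
            simp only [map_one, Units.val_one] at h1
            exact_mod_cast h1.symm⟩⟩ : L)) ⟨?_, ?_⟩)).symm
    · intro a b h
      refine Subtype.ext (MonoidHom.ext fun n => Units.ext ?_)
      exact congrFun (congrArg (fun z : L => ((z.1 : Cfsg.IrrCharacter N) : N → ℂ)) h) n
    · rintro ⟨θ, hθ⟩
      obtain ⟨-, hθf, hθd⟩ := Finset.mem_filter.mp hθ
      obtain ⟨f, hf⟩ := CharCore.IsCharacter.exists_hom_of_degree_one (CharCore.irr_isCharacter θ)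
        (by rw [hd, hθd, Nat.cast_one])
      refine ⟨⟨f, fun g n => Units.ext ?_⟩, Subtype.ext (Subtype.ext hf.symm)⟩
      have h1 := (hfix θ).mp hθf g n
      rw [hf] at h1
      exact h1
  have hNp : ¬ p ∣ Nat.card N := by
    intro h
    rw [← hNcard, (hsum.dvd_iff dvd_rfl), hLI] at h
    obtain ⟨l, hl⟩ := exists_prime_orderOf_dvd_card' p h
    exact hp.coprime_iff_not_dvd.mp (hord (l : N →* ℂˣ)) (by rw [Subgroup.orderOf_coe, hl])
  refine ⟨N, hN, ?_, (hp.coprime_iff_not_dvd.mpr hNp).symm, k, hk⟩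
  have hall : ∀ θ : Cfsg.IrrCharacter N, (θ : N → ℂ) 1 = 1 := by
    intro θ
    obtain ⟨χ, hχ⟩ : ∃ χ : Cfsg.IrrCharacter G,
        Cfsg.classInner (fun n : N => (χ : G → ℂ) n) θ ≠ 0 := by
      by_contra hcon
      push Not at hcon
      have h1 : Cfsg.indFun N (θ : N → ℂ) = 0 := by
        rw [CharCore.eq_sum_classInner (CharInd.isClassFunction_indFun N (θ : N → ℂ))]
        refine Finset.sum_eq_zero fun χ _ => ?_
        rw [← CharCore.conj_classInner,
          CharInd.classInner_indFun_right N _ (CharCore.irr_isClassFunction χ), hcon, map_zero, zero_smul]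
      have h2 := congrFun h1 1
      rw [CharInd.indFun_apply_one, Pi.zero_apply] at h2
      exact mul_ne_zero (Nat.cast_ne_zero.mpr Subgroup.index_ne_zero_of_finite)
        (CharCore.irr_apply_one_ne_zero θ) h2
    obtain ⟨i, hi⟩ := hdeg χ
    have hdvd : d θ ∣ p ^ i :=
      dvd_degree_of_constituent N θ.2 χ.2 (hd θ) (D := p ^ i) (by push_cast; exact hi) hχ
    obtain ⟨n, ρ, hρ, hρθ⟩ := θ.2
    have hcard : d θ ∣ Nat.card N := by
      obtain ⟨D, -, hD, hD1⟩ := CharClifford.exists_degree_dvd_card θ.2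
      have : d θ = D := by rw [hd θ] at hD1; exact_mod_cast hD1
      rwa [this]
    have : d θ = 1 := Nat.eq_one_of_dvd_coprimes
      (Nat.Coprime.pow_left i (hp.coprime_iff_not_dvd.mpr hNp)) hdvd hcard
    rw [hd, this, Nat.cast_one]
  intro a ha b hb
  exact congrArg Subtype.val (commute_of_forall_linear hall ⟨a, ha⟩ ⟨b, hb⟩)

theorem degree_prime_power_of_abelian (p : ℕ) (hp : p.Prime) (A : Subgroup G) [A.Normal]
    (hA : ∀ a ∈ A, ∀ b ∈ A, a * b = b * a) {k : ℕ} (hk : A.index = p ^ k)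
    (χ : Cfsg.IrrCharacter G) : ∃ j : ℕ, (χ : G → ℂ) 1 = (p : ℂ) ^ j := by
  obtain ⟨n, ρ, hρ, hchar⟩ := χ.2
  have h := Cfsg.Agent.S0169.result ρ A hA
  rw [hk] at h
  obtain ⟨j, -, hj⟩ := (Nat.dvd_prime_pow hp).mp h
  exact ⟨j, by rw [← hchar, Representation.char_one, hj]; push_cast; rfl⟩

end Cfsg.Agent.CharDeep.Ext
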